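import Groth.Agent.EtCoh.K609.CoverP2
import Groth.Agent.EtCoh.K958.CBas

/-!
# NODE COV of S18107: projective surfaces over finite fields as covers of the projective plane of level `N`
-/

set_option autoImplicit false

universe u

open CategoryTheory CategoryTheory.Limits AlgebraicGeometry Opposite TopologicalSpace KaehlerDifferential
open K56.T4 K593.T3

noncomputable section

namespace K609.Cover

variable {p N : ℕ} [hp : Fact p.Prime]

theorem smooth_quot (hN : 1 ≤ N) {B : Type u} [CommRing B] (φ : Fp.{u} p →+* B) (hφ : φ.Smooth)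
    [Algebra (Zw.{u} p N ⧸ Ideal.span {(p : Zw.{u} p N)}) B] :
    Algebra.Smooth (Zw.{u} p N ⧸ Ideal.span {(p : Zw.{u} p N)}) B := by
  let e : (Zw.{u} p N ⧸ Ideal.span {(p : Zw.{u} p N)}) →+* Fp.{u} p := Ideal.Quotient.lift _ (redw p N hN)
    (fun a ha => by rwa [← ker_redw p N hN] at ha)
  have he : Function.Bijective e := by
    refine ⟨(injective_iff_map_eq_zero _).2 fun a ha => ?_, fun a => ?_⟩
    · obtain ⟨a, rfl⟩ := Ideal.Quotient.mk_surjective a
      change redw p N hN a = 0 at ha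
      rw [Ideal.Quotient.eq_zero_iff_mem, ← ker_redw p N hN]
      exact ha
    · obtain ⟨a, rfl⟩ := redw_surjective p N hN a
      exact ⟨Ideal.Quotient.mk _ a, rfl⟩
  have h1 : algebraMap (Zw.{u} p N ⧸ Ideal.span {(p : Zw.{u} p N)}) B = φ.comp e := by
    refine RingHom.ext fun a => ?_
    obtain ⟨a, rfl⟩ := Ideal.Quotient.mk_surjective a
    obtain ⟨r, rfl⟩ := Zw.int_surj p N a
    rw [map_intCast, map_intCast, map_intCast]
  rw [← RingHom.smooth_algebraMap, h1]
  exact (RingHom.Smooth.of_bijective he).comp hφ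

theorem isCov_of_good (hN : 1 ≤ N) {P X : Scheme.{u}} (r : X ⟶ P) (D : P2 P (Zw.{u} p N)) (V : P.Etale)
    (g : Γ(V.left, ⊤)) (h : Good r p V g) : K958.Pack.IsCov r D p V g := by
  obtain ⟨φ, hφ⟩ := h.sm
  let _ := K958.Pack.algC D V
  let _ := K958.Pack.algRB r V
  let _ := K958.Pack.algCB r D V
  have h1 : (p : RB r V) = 0 := by
    have h2 := map_natCast φ p
    have h3 : (p : Fp.{u} p) = 0 := CharP.cast_eq_zero _ _
    rw [h3, map_zero] at h2
    exact h2.symm
  exact
    { nil := ⟨N, pow_zero_Zw p N⟩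
      pB := h1
      nzd := h.nzd
      bas := h.bas
      sm := smooth_quot hN φ hφ
      unr := fun ω => by
        rw [algebraMap_smul]
        exact h.unr ω }

/-- NODE COV. -/
theorem exists_cover (k : Type u) [Field k] [Finite k] (p : ℕ) [Fact p.Prime] [CharP k p]
    (X : Scheme.{u}) (f : X ⟶ Spec (.of k)) [AlgebraicGeometry.IsIntegral X]
    (hproj : Neron.IsProjectiveOver k (Over.mk f)) [SmoothOfRelativeDimension 2 f] (N : ℕ) (hN : 0 < N) :
    ∃ r : X ⟶ CohB1.ProjSpaceOver 2 (Spec (.of (Zw.{u} p N))), IsFinite r ∧ Surjective r ∧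
      Base.IsBasis (K958.Pack.CBas r (K958.P2Charts.p2 (Zw.{u} p N)) p) := by
  obtain ⟨r, h1, h2, h3⟩ := exists_good k p X f hproj N hN
  refine ⟨r, h1, h2, fun U x => ?_⟩
  obtain ⟨V, g, v, hv, hV, i, hi, a, ha⟩ := h3 U x
  exact ⟨V, g, v, hv, hV, i, hi, a, isCov_of_good hN r _ V a ha⟩

end K609.Cover
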