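import Mathlib.Algebra.Category.Ring.Constructions
import Mathlib.RingTheory.Etale.Kaehler
import Mathlib.RingTheory.Kaehler.TensorProduct
import Mathlib.RingTheory.Flat.EquationalCriterion
import Mathlib.RingTheory.TensorProduct.IsBaseChangeFree
import Mathlib.RingTheory.RingHom.Etale
import Mathlib.RingTheory.Polynomial.Quotient
import Mathlib.RingTheory.Ideal.GoingUp

/-!
# Algebra for covers of the projective plane of level `N`

Pushouts of surjections, bases, modules of differentials killed by an element, non-zero-divisors modulo `p`.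
-/

set_option autoImplicit false

universe u

open CategoryTheory KaehlerDifferential

noncomputable section

namespace K609.CovAlg

/-- The pushout of a surjection with kernel `(r)` is a surjection with kernel `(r)`. -/
theorem ker_of_isPushout {R A S B : CommRingCat.{u}} {f : R ⟶ A} {g : R ⟶ S} {a : A ⟶ B} {b : S ⟶ B}
    (H : IsPushout f g a b) (hg : Function.Surjective g) (r : R) (hr : RingHom.ker g.hom = Ideal.span {r}) :
    Function.Surjective a ∧ RingHom.ker a.hom = Ideal.span {f r} := by
  constructor
  · have h1 := CommRingCat.closure_range_union_range_eq_top_of_isPushout H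
    have h2 : Subring.closure (Set.range a ∪ Set.range b) ≤ a.hom.range := by
      rw [Subring.closure_le]
      rintro _ (⟨x, rfl⟩ | ⟨x, rfl⟩)
      · exact ⟨x, rfl⟩
      · obtain ⟨y, rfl⟩ := hg x
        exact ⟨f y, congr($(H.w).hom y)⟩
    rw [h1, top_le_iff] at h2
    exact RingHom.range_eq_top.1 h2
  · refine le_antisymm (fun x hx => ?_) ?_
    · let I := Ideal.span {f r}
      have hk : RingHom.ker g.hom ≤ RingHom.ker ((Ideal.Quotient.mk I).comp f.hom) := by
        rw [hr, Ideal.span_le, Set.singleton_subset_iff]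
        change Ideal.Quotient.mk I (f r) = 0
        rw [Ideal.Quotient.eq_zero_iff_mem]
        exact Ideal.mem_span_singleton_self _
      let c : S.carrier →+* A ⧸ I := g.hom.liftOfSurjective hg ⟨(Ideal.Quotient.mk I).comp f.hom, hk⟩
      have hc : f ≫ CommRingCat.ofHom (Ideal.Quotient.mk I) = g ≫ CommRingCat.ofHom c := by
        ext y
        exact (RingHom.liftOfSurjective_comp_apply g.hom hg ⟨(Ideal.Quotient.mk I).comp f.hom, hk⟩ y).symm
      have h1 : a ≫ H.desc _ _ hc = CommRingCat.ofHom (Ideal.Quotient.mk I) := H.inl_desc _ _ _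
      have h2 := congr($(h1).hom x)
      have h3 : a.hom x = 0 := hx
      rw [CommRingCat.hom_comp, RingHom.comp_apply, h3, map_zero] at h2
      exact Ideal.Quotient.eq_zero_iff_mem.1 h2.symm
    · rw [Ideal.span_le, Set.singleton_subset_iff]
      have h1 : g.hom r = 0 := by
        rw [← RingHom.mem_ker, hr]
        exact Ideal.mem_span_singleton_self _
      have h2 := congr($(H.w).hom r)
      change a.hom (f.hom r) = b.hom (g.hom r) at h2
      change a.hom (f.hom r) = 0
      rw [h2, h1, map_zero]

/-! ### Bases -/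

/-- `c` is a basis of `S` over `R`. -/
def IsBas {R S : Type u} [CommRing R] [CommRing S] (g : R →+* S) {m : ℕ} (c : Fin m → S) : Prop :=
  ∀ s : S, ∃! x : Fin m → R, ∑ i, g (x i) * c i = s

theorem isBas_of_basis {R S : Type u} [CommRing R] [CommRing S] [Algebra R S] {m : ℕ} (b : Module.Basis (Fin m) R S) :
    IsBas (algebraMap R S) b := by
  intro s
  refine ⟨b.equivFun s, ?_, fun y hy => ?_⟩
  · have := b.sum_equivFun s
    simp only [Algebra.smul_def] at this
    exact this
  · rw [← hy]
    simp only [← Algebra.smul_def]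
    rw [b.equivFun_apply, b.repr_sum_self]

theorem exists_isBas {R S : Type u} [CommRing R] [CommRing S] [Algebra R S] [Module.Free R S] [Module.Finite R S] :
    ∃ (m : ℕ) (c : Fin m → S), IsBas (algebraMap R S) c := by
  let b := Module.Free.chooseBasis R S
  let e := Fintype.equivFin (Module.Free.ChooseBasisIndex R S)
  exact ⟨_, _, isBas_of_basis (b.reindex e)⟩

/-- A basis in the sense of modules. -/
def IsBas.basis {R S : Type u} [CommRing R] [CommRing S] [Algebra R S] {m : ℕ} {c : Fin m → S}
    (h : IsBas (algebraMap R S) c) : Module.Basis (Fin m) R S :=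
  Module.Basis.ofEquivFun (LinearEquiv.ofBijective (Fintype.linearCombination R c) (by
    have e : ∀ x, Fintype.linearCombination R c x = ∑ i, algebraMap R S (x i) * c i := fun x => by
      rw [Fintype.linearCombination_apply]
      simp only [Algebra.smul_def]
    refine ⟨fun x y hxy => ?_, fun s => ?_⟩
    · rw [e, e] at hxy
      exact (h _).unique hxy rfl
    · obtain ⟨x, hx, -⟩ := h s
      exact ⟨x, (e x).trans hx⟩)).symm

theorem IsBas.basis_apply {R S : Type u} [CommRing R] [CommRing S] [Algebra R S] {m : ℕ} {c : Fin m → S}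
    (h : IsBas (algebraMap R S) c) (i : Fin m) : h.basis i = c i := by
  unfold IsBas.basis
  rw [Module.Basis.coe_ofEquivFun]
  change Fintype.linearCombination R c (Pi.single i 1) = c i
  rw [Fintype.linearCombination_apply_single, one_smul]

/-- Base change of bases. -/
theorem IsBas.baseChange {R A S B : CommRingCat.{u}} {f : R ⟶ A} {g : R ⟶ S} {a : A ⟶ B} {b : S ⟶ B}
    (H : IsPushout f g a b) {m : ℕ} {c : Fin m → S} (h : IsBas g.hom c) : IsBas a.hom (fun i => b (c i)) := by
  algebraize [f.hom, g.hom, a.hom, b.hom, a.hom.comp f.hom]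
  have h3 : IsScalarTower R S B := by
    refine .of_algebraMap_eq fun r => ?_
    exact congrArg (fun f : R ⟶ B => f.hom r) H.w
  have hpush : Algebra.IsPushout R A S B := (CommRingCat.isPushout_iff_isPushout.1 H)
  have h' : IsBas (algebraMap R S) c := h
  have h4 := isBas_of_basis (hpush.out.basis h'.basis)
  have h5 : (hpush.out.basis h'.basis : Fin m → B) = fun i => b (c i) := by
    funext i
    rw [IsBaseChange.basis_apply, IsBas.basis_apply]
    rfl
  rw [h5] at h4
  exact h4

/-- Bases over a quotient. -/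
theorem IsBas.quot {A A₁ B : Type u} [CommRing A] [CommRing A₁] [CommRing B] [Algebra A B] (q : A →+* A₁)
    (hq : Function.Surjective q) (p : A) (kq : RingHom.ker q = Ideal.span {p}) (t : A₁ →+* B)
    (ht : t.comp q = algebraMap A B) {m : ℕ} {c : Fin m → B} (h : IsBas t c) :
    Nonempty ((Fin m → A ⧸ Ideal.span {p}) ≃ₗ[A] B) := by
  let e : A ⧸ Ideal.span {p} →+* A₁ := Ideal.Quotient.lift _ q (fun a ha => by rwa [← kq] at ha)
  have he : Function.Bijective e := by
    refine ⟨(injective_iff_map_eq_zero _).2 fun a ha => ?_, fun a => ?_⟩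
    · obtain ⟨a, rfl⟩ := Ideal.Quotient.mk_surjective a
      change q a = 0 at ha
      rw [Ideal.Quotient.eq_zero_iff_mem, ← kq]
      exact ha
    · obtain ⟨a, rfl⟩ := hq a
      exact ⟨Ideal.Quotient.mk _ a, rfl⟩
  let Φ : (Fin m → A ⧸ Ideal.span {p}) →ₗ[A] B :=
    { toFun := fun x => ∑ i, t (e (x i)) * c i
      map_add' := fun x y => by simp only [Pi.add_apply, map_add, add_mul, Finset.sum_add_distrib]
      map_smul' := fun a x => by
        rw [RingHom.id_apply, Finset.smul_sum]
        refine Finset.sum_congr rfl fun i _ => ?_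
        have h1 : (a • x) i = Ideal.Quotient.mk _ a * x i := by
          rw [Pi.smul_apply, Algebra.smul_def]
          rfl
        have h2 : t (q a) = algebraMap A B a := congr($ht a)
        rw [h1, map_mul, map_mul, Algebra.smul_def, ← h2, mul_assoc]
        rfl }
  refine ⟨LinearEquiv.ofBijective Φ ⟨fun x y hxy => ?_, fun s => ?_⟩⟩
  · have h1 : (fun i => e (x i)) = fun i => e (y i) := (h _).unique hxy rfl
    funext i
    exact he.1 (congrFun h1 i)
  · obtain ⟨x, hx, -⟩ := h s
    choose y hy using fun i => he.2 (x i)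
    refine ⟨y, ?_⟩
    rw [← hx]
    change ∑ i, t (e (y i)) * c i = _
    exact Finset.sum_congr rfl fun i _ => by rw [hy i]

/-! ### Non-zero-divisors -/

theorem dvd_of_flat {R A : Type u} [CommRing R] [CommRing A] [Algebra R A] [Module.Flat R A] (p g : R)
    (hg : ∀ u, p ∣ g * u → p ∣ u) (a : A) (ha : algebraMap R A p ∣ algebraMap R A g * a) : algebraMap R A p ∣ a := by
  obtain ⟨c, hc⟩ := ha
  have h1 : ∑ i : Fin 2, (![g, -p] i) • (![a, c] i) = 0 := by
    rw [Fin.sum_univ_two]
    simp only [Matrix.cons_val_zero, Matrix.cons_val_one, Algebra.smul_def, map_neg]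
    rw [hc]
    ring
  obtain ⟨κ, u, y, h2, h3⟩ := Module.Flat.isTrivialRelation_of_sum_smul_eq_zero h1
  have h4 : ∀ j, p ∣ u 0 j := by
    intro j
    have := h3 j
    rw [Fin.sum_univ_two] at this
    simp only [Matrix.cons_val_zero, Matrix.cons_val_one] at this
    exact hg _ ⟨u 1 j, by linear_combination this⟩
  have h5 := h2 0
  simp only [Matrix.cons_val_zero] at h5
  rw [h5]
  refine Finset.dvd_sum fun j _ => ?_
  rw [Algebra.smul_def]
  exact (map_dvd (algebraMap R A) (h4 j)).mul_right _

/-! ### Differentials -/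

theorem smul_eq_zero_of_forall_D {A B : Type u} [CommRing A] [CommRing B] [Algebra A B] (g : A)
    (h : ∀ b : B, g • D A B b = 0) (ω : Ω[B⁄A]) : g • ω = 0 := by
  have h1 : ω ∈ Submodule.span B (Set.range (D A B)) := by
    rw [KaehlerDifferential.span_range_derivation]
    trivial
  induction h1 using Submodule.span_induction with
  | mem x hx =>
    obtain ⟨b, rfl⟩ := hx
    exact h b
  | zero => rw [smul_zero]
  | add x y _ _ hx hy => rw [smul_add, hx, hy, add_zero]
  | smul a x _ hx => rw [smul_comm, hx, smul_zero]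

/-- Base change of differentials killed by `g`. -/
theorem smul_kaehler_of_closure {R A S B : Type u} [CommRing R] [CommRing A] [CommRing S] [CommRing B]
    [Algebra R S] [Algebra A B] (f : R →+* A) (b : S →+* B)
    (hw : b.comp (algebraMap R S) = (algebraMap A B).comp f)
    (hcl : Subring.closure (Set.range (algebraMap A B) ∪ Set.range b) = ⊤) (g : R)
    (hg : ∀ ω : Ω[S⁄R], g • ω = 0) (ω : Ω[B⁄A]) : f g • ω = 0 := by
  refine smul_eq_zero_of_forall_D _ (fun x => ?_) ω
  algebraize [f, b, (algebraMap A B).comp f]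
  have h3 : IsScalarTower R S B := .of_algebraMap_eq fun r => congr($hw r).symm
  have h1 : x ∈ Subring.closure (Set.range (algebraMap A B) ∪ Set.range b) := by
    rw [hcl]
    trivial
  induction h1 using Subring.closure_induction with
  | mem x hx =>
    rcases hx with ⟨a, rfl⟩ | ⟨s, rfl⟩
    · rw [Derivation.map_algebraMap, smul_zero]
    · have h4 : D A B (b s) = KaehlerDifferential.map R A S B (D R S s) := by
        rw [KaehlerDifferential.map_D]
        rfl
      have h5 : f g • D A B (b s) = g • D A B (b s) := by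
        rw [← algebraMap_smul A g (D A B (b s))]
        rfl
      rw [h5, h4, ← algebraMap_smul S g, ← map_smul, algebraMap_smul, hg, map_zero]
  | zero => rw [map_zero, smul_zero]
  | one => rw [Derivation.map_one_eq_zero, smul_zero]
  | add x y _ _ hx hy => rw [map_add, smul_add, hx, hy, add_zero]
  | neg x _ hx => rw [map_neg, smul_neg, hx, neg_zero]
  | mul x y _ _ hx hy =>
    rw [Derivation.leibniz, smul_add, smul_comm (f g) x, hy, smul_comm (f g) y, hx, smul_zero, smul_zero, add_zero]

/-- Localization of differentials. -/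
theorem exists_pow_smul_D {C S C' S' : Type u} [CommRing C] [CommRing S] [CommRing C'] [CommRing S'] [Algebra C S]
    [Algebra C C'] [Algebra S S'] [Algebra C S'] [Algebra C' S'] [IsScalarTower C C' S'] [IsScalarTower C S S'] (h : C)
    [IsLocalization.Away h C'] [IsLocalization.Away (algebraMap C S h) S'] [Algebra.FormallyUnramified C' S'] (s : S) :
    ∃ n : ℕ, h ^ n • D C S s = 0 := by
  have h1 : IsLocalization (Algebra.algebraMapSubmonoid S (Submonoid.powers h)) S' := by
    rw [Algebra.algebraMapSubmonoid_powers]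
    infer_instance
  have h2 : IsLocalizedModule (.powers h) ((KaehlerDifferential.map C C' S S').restrictScalars C) :=
    KaehlerDifferential.isLocalizedModule C C' S S' _
  have h3 : Subsingleton Ω[S'⁄C'] := inferInstance
  have h4 : ((KaehlerDifferential.map C C' S S').restrictScalars C) (D C S s) = 0 := Subsingleton.elim _ _
  rw [IsLocalizedModule.eq_zero_iff (.powers h)] at h4
  obtain ⟨⟨_, n, rfl⟩, hn⟩ := h4
  exact ⟨n, hn⟩

theorem exists_pow_smul {C S : Type u} [CommRing C] [CommRing S] [Algebra C S] [Algebra.FiniteType C S] (h : C)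
    (H : ∀ s : S, ∃ n : ℕ, h ^ n • D C S s = 0) : ∃ n : ℕ, ∀ ω : Ω[S⁄C], h ^ n • ω = 0 := by
  let N : ℕ → Subalgebra C S := fun n =>
    { carrier := {s | h ^ n • D C S s = 0}
      mul_mem' := fun {x y} hx hy => by
        change _ = _
        rw [Derivation.leibniz, smul_add, smul_comm, hy.out, smul_comm, hx.out, smul_zero, smul_zero, add_zero]
      add_mem' := fun {x y} hx hy => by
        change _ = _
        rw [map_add, smul_add, hx.out, hy.out, add_zero]
      algebraMap_mem' := fun r => by
        change _ = _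
        rw [Derivation.map_algebraMap, smul_zero] }
  obtain ⟨t, ht⟩ : (⊤ : Subalgebra C S).FG := Algebra.FiniteType.out
  choose n hn using H
  let m := t.sup n
  have h1 : (t : Set S) ⊆ N m := by
    intro s hs
    change h ^ m • D C S s = 0
    obtain ⟨l, hl⟩ := Nat.exists_eq_add_of_le (Finset.le_sup (f := n) hs)
    change m = _ at hl
    rw [hl, pow_add, mul_comm, mul_smul, hn, smul_zero]
  refine ⟨m, smul_eq_zero_of_forall_D _ fun s => ?_⟩
  have h2 : (⊤ : Subalgebra C S) ≤ N m := by
    rw [← ht]
    exact Algebra.adjoin_le h1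
  exact h2 (Algebra.mem_top (x := s))

/-- An element of `R` killing `Ω[S⁄R]`. -/
theorem exists_killer {R C S : Type u} [CommRing R] [CommRing C] [IsDomain C] [CommRing S] [Algebra R C] [Algebra C S]
    [Algebra R S] [IsScalarTower R C S] [Algebra.IsIntegral R C] [Algebra.FormallyUnramified R C] (G : C) (hG : G ≠ 0)
    (h : ∀ ω : Ω[S⁄C], G • ω = 0) : ∃ g : R, algebraMap R C g ≠ 0 ∧ ∀ ω : Ω[S⁄R], g • ω = 0 := by
  obtain ⟨g, hg0, c, hc⟩ : ∃ g : R, algebraMap R C g ≠ 0 ∧ ∃ c, algebraMap R C g = c * G := by
    let R' := (algebraMap R C).range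
    have h1 : IsIntegral R' G := by
      have h2 : IsIntegral R G := Algebra.IsIntegral.isIntegral G
      let : Algebra R R' := (algebraMap R C).rangeRestrict.toAlgebra
      have : IsScalarTower R R' C := .of_algebraMap_eq fun r => rfl
      exact h2.tower_top
    have h2 := Ideal.comap_ne_bot_of_integral_mem (R := R') hG (Ideal.mem_span_singleton_self G) h1
    obtain ⟨⟨_, g, rfl⟩, hg, hg0⟩ := Submodule.exists_mem_ne_zero_of_ne_bot h2
    obtain ⟨c, hc⟩ := Ideal.mem_span_singleton'.1 hg
    exact ⟨g, fun h => hg0 (Subtype.ext h), c, hc.symm⟩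
  refine ⟨g, hg0, fun ω => ?_⟩
  have h1 : KaehlerDifferential.map R C S S (g • ω) = 0 := by
    have h2 : KaehlerDifferential.map R C S S (g • ω) = g • KaehlerDifferential.map R C S S ω :=
      LinearMap.map_smul_of_tower _ _ _
    rw [h2, ← algebraMap_smul C g, hc, mul_smul, h, smul_zero]
  obtain ⟨y, hy⟩ := (KaehlerDifferential.exact_mapBaseChange_map R C S _).1 h1
  have h3 : Subsingleton Ω[C⁄R] := inferInstance
  have h4 : ∀ y : TensorProduct C S Ω[C⁄R], y = 0 := fun y => y.induction_on rfl
    (fun x z => by rw [Subsingleton.elim z 0, TensorProduct.tmul_zero]) (fun x y hx hy => by rw [hx, hy, add_zero])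
  rw [← hy, h4 y, map_zero]

/-! ### Polynomial rings over `W` -/

theorem dvd_mvPolynomial {k₀ W : Type u} [Field k₀] [CommRing W] (π : W →+* k₀) (p : ℕ)
    (hk : RingHom.ker π = Ideal.span {(p : W)}) (g u : MvPolynomial (Fin 2) W)
    (hg : ¬ (p : MvPolynomial (Fin 2) W) ∣ g) (h : (p : MvPolynomial (Fin 2) W) ∣ g * u) :
    (p : MvPolynomial (Fin 2) W) ∣ u := by
  have h1 : ∀ f : MvPolynomial (Fin 2) W, (p : MvPolynomial (Fin 2) W) ∣ f ↔ MvPolynomial.map π f = 0 := by
    intro f
    rw [← RingHom.mem_ker, MvPolynomial.ker_map, hk, Ideal.map_span, Set.image_singleton, map_natCast,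
      Ideal.mem_span_singleton]
  rw [h1] at h hg ⊢
  rw [map_mul] at h
  exact (mul_eq_zero.1 h).resolve_left hg

/-- Étale algebras over `ℤ/n[x, y]` are smooth over `ℤ/n`. -/
theorem smooth_zmod {n : ℕ} {A : Type u} [CommRing A] (i : MvPolynomial (Fin 2) (ULift.{u} (ZMod n)) →+* A)
    (hi : i.Etale) [Algebra (ZMod n) A] : Algebra.Smooth (ZMod n) A := by
  have h1 : (MvPolynomial.C (σ := Fin 2) (R := ULift.{u} (ZMod n))).Smooth :=
    RingHom.smooth_algebraMap.2 ⟨inferInstance, inferInstance⟩
  have h2 : (ULift.ringEquiv.symm : ZMod n ≃+* ULift.{u} (ZMod n)).toRingHom.Smooth :=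
    RingHom.Smooth.of_bijective (ULift.ringEquiv.symm : ZMod n ≃+* ULift.{u} (ZMod n)).bijective
  have h3 : i.Smooth := ((RingHom.etale_iff_formallyUnramified_and_smooth i).1 hi).2
  have h4 := (h2.comp h1).comp h3
  rw [← RingHom.smooth_algebraMap]
  convert h4 using 1
  exact Subsingleton.elim _ _

end K609.CovAlg
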