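import Groth.Agent.EtCoh.K609.CoverAlg
import Groth.Agent.Pi1C.EtTraceSch
import Groth.Agent.NonAbH1.K550.FinFlat
import Mathlib.AlgebraicGeometry.Morphisms.FormallyUnramified

/-!
# Geometry of covers of the projective plane of level `N`
-/

set_option autoImplicit false

universe u

open CategoryTheory CategoryTheory.Limits AlgebraicGeometry TopologicalSpace KaehlerDifferential

noncomputable section

namespace K609.CovGeo

open K609.CovAlg

/-- Global sections of a base change along a surjection of rings with principal kernel. -/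
theorem ker_appTop {W F : Type u} [CommRing W] [CommRing F] (red : W →+* F) (hs : Function.Surjective red) (w : W)
    (hk : RingHom.ker red = Ideal.span {w}) {V V₁ : Scheme.{u}} [IsAffine V] {a : V ⟶ Spec (.of W)}
    {b : V₁ ⟶ Spec (.of F)} {i : V₁ ⟶ V} (H : IsPullback i b a (Spec.map (CommRingCat.ofHom red))) :
    Function.Surjective i.appTop ∧
      RingHom.ker i.appTop.hom = Ideal.span {a.appTop ((Scheme.ΓSpecIso (.of W)).inv w)} := by
  have h1 := isPushout_appTop_of_isPullback H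
  have h2 : (Scheme.ΓSpecIso (.of W)).inv ≫ (Spec.map (CommRingCat.ofHom red)).appTop =
      CommRingCat.ofHom red ≫ (Scheme.ΓSpecIso (.of F)).inv := (Scheme.ΓSpecIso_inv_naturality _).symm
  have h3 : (Spec.map (CommRingCat.ofHom red)).appTop =
      (Scheme.ΓSpecIso (.of W)).hom ≫ CommRingCat.ofHom red ≫ (Scheme.ΓSpecIso (.of F)).inv := by
    rw [← h2, Iso.hom_inv_id_assoc]
  have hb1 : Function.Bijective (Scheme.ΓSpecIso (.of W)).hom := ConcreteCategory.bijective_of_isIso _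
  have hb2 : Function.Bijective (Scheme.ΓSpecIso (.of F)).inv := ConcreteCategory.bijective_of_isIso _
  refine ker_of_isPushout h1 ?_ _ ?_
  · rw [h3]
    exact hb2.2.comp (hs.comp hb1.2)
  · ext x
    rw [RingHom.mem_ker, h3]
    obtain ⟨y, rfl⟩ : ∃ y, (Scheme.ΓSpecIso (.of W)).inv y = x :=
      (ConcreteCategory.bijective_of_isIso (Scheme.ΓSpecIso (.of W)).inv).2 x
    have h4 : ∀ z, (Scheme.ΓSpecIso (.of W)).hom ((Scheme.ΓSpecIso (.of W)).inv z) = z := fun z =>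
      congr($((Scheme.ΓSpecIso (.of W)).inv_hom_id).hom z)
    constructor
    · intro h
      change (Scheme.ΓSpecIso (.of F)).inv (red ((Scheme.ΓSpecIso (.of W)).hom ((Scheme.ΓSpecIso (.of W)).inv y))) = 0
        at h
      rw [h4] at h
      have h5 : red y = 0 := hb2.1 (h.trans (map_zero (Scheme.ΓSpecIso (.of F)).inv.hom).symm)
      rw [← RingHom.mem_ker, hk, Ideal.mem_span_singleton] at h5
      rw [Ideal.mem_span_singleton]
      exact map_dvd (Scheme.ΓSpecIso (.of W)).inv.hom h5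
    · intro h
      rw [Ideal.mem_span_singleton] at h
      have h5 := map_dvd (Scheme.ΓSpecIso (.of W)).hom.hom h
      change (Scheme.ΓSpecIso (.of W)).hom ((Scheme.ΓSpecIso (.of W)).inv w) ∣
        (Scheme.ΓSpecIso (.of W)).hom ((Scheme.ΓSpecIso (.of W)).inv y) at h5
      rw [h4, h4, ← Ideal.mem_span_singleton, ← hk, RingHom.mem_ker] at h5
      change (Scheme.ΓSpecIso (.of F)).inv (red ((Scheme.ΓSpecIso (.of W)).hom ((Scheme.ΓSpecIso (.of W)).inv y))) = 0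
      rw [h4, h5]
      exact map_zero (Scheme.ΓSpecIso (.of F)).inv.hom

/-- Étale over an open subset: sections. -/
theorem etale_app {X Y : Scheme.{u}} (f : X ⟶ Y) [IsAffineHom f] (V : Y.Opens) [Etale (f ∣_ V)] (D : Y.Opens)
    (hD : IsAffineOpen D) (hDV : D ≤ V) : (f.app D).hom.Etale := by
  obtain ⟨V', rfl⟩ : ∃ V' : (V : Scheme).Opens, V.ι ''ᵁ V' = D := by
    refine ⟨V.ι ⁻¹ᵁ D, ?_⟩
    rw [V.ι.image_preimage_eq_opensRange_inf, Scheme.Opens.opensRange_ι]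
    exact inf_eq_right.2 hDV
  have hV' : IsAffineOpen V' := V.ι.isAffineOpen_iff_of_isOpenImmersion.1 hD
  have hf : IsAffineHom (f ∣_ V) := IsZariskiLocalAtTarget.restrict ‹_› V
  have h1 := HasRingHomProperty.appLE @Etale (f ∣_ V) inferInstance ⟨V', hV'⟩ ⟨_, hV'.preimage (f ∣_ V)⟩ le_rfl
  rw [morphismRestrict_appLE] at h1
  have h2 : ∀ (W : X.Opens) (e : W ≤ f ⁻¹ᵁ (V.ι ''ᵁ V')) (_ : W = f ⁻¹ᵁ (V.ι ''ᵁ V')),
      (f.appLE (V.ι ''ᵁ V') W e).hom.Etale → (f.app (V.ι ''ᵁ V')).hom.Etale := by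
    rintro W e rfl h
    rwa [Scheme.Hom.appLE_eq_app] at h
  exact h2 _ _ (image_morphismRestrict_preimage f V V') h1

/-- A section over an affine open killing the differentials of a generically étale finite morphism. -/
theorem exists_killer_geo {X Q P : Scheme.{u}} [AlgebraicGeometry.IsIntegral Q] (ρ : X ⟶ Q) (π : Q ⟶ P) [IsFinite ρ] [IsFinite π]
    [AlgebraicGeometry.FormallyUnramified π] (V : Q.Opens) (hV : (V : Set Q).Nonempty) (hVe : Etale (ρ ∣_ V))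
    (U : P.Opens) (hU : IsAffineOpen U) (hne : (π ⁻¹ᵁ U : Set Q).Nonempty) :
    ∃ g : Γ(P, U), π.app U g ≠ 0 ∧
      letI := ((ρ ≫ π).app U).hom.toAlgebra
      ∀ ω : Ω[Γ(X, (ρ ≫ π) ⁻¹ᵁ U)⁄Γ(P, U)], g • ω = 0 := by
  let E := π ⁻¹ᵁ U
  have hE : IsAffineOpen E := hU.preimage π
  have : Nonempty E := hne.to_subtype
  obtain ⟨y, hyV, hyE⟩ : ((V : Set Q) ∩ E).Nonempty :=
    nonempty_preirreducible_inter V.isOpen E.isOpen hV hne
  obtain ⟨h, hle, hy⟩ := hE.exists_basicOpen_le ⟨y, hyV⟩ hyE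
  let D := Q.basicOpen h
  have hDE : D ≤ E := Q.basicOpen_le h
  have hD : IsAffineOpen D := hE.basicOpen h
  have h0 : h ≠ 0 := by
    rintro rfl
    rw [Scheme.basicOpen_zero] at hy
    exact hy
  have het : (ρ.app D).hom.Etale := etale_app ρ V D hD hle
  have hρE : IsAffineOpen (ρ ⁻¹ᵁ E) := hE.preimage ρ
  let aCC : Algebra Γ(Q, E) Γ(Q, D) := (Q.presheaf.map (homOfLE hDE).op).hom.toAlgebra
  let aSS : Algebra Γ(X, ρ ⁻¹ᵁ E) Γ(X, ρ ⁻¹ᵁ D) :=
    (X.presheaf.map (homOfLE (ρ.preimage_mono hDE)).op).hom.toAlgebra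
  let aCS : Algebra Γ(Q, E) Γ(X, ρ ⁻¹ᵁ E) := (ρ.app E).hom.toAlgebra
  let aCS' : Algebra Γ(Q, D) Γ(X, ρ ⁻¹ᵁ D) := (ρ.app D).hom.toAlgebra
  let aCS'' : Algebra Γ(Q, E) Γ(X, ρ ⁻¹ᵁ D) := ((ρ.app D).hom.comp (Q.presheaf.map (homOfLE hDE).op).hom).toAlgebra
  have t1 : IsScalarTower Γ(Q, E) Γ(Q, D) Γ(X, ρ ⁻¹ᵁ D) := .of_algebraMap_eq fun _ => rfl
  have t2 : IsScalarTower Γ(Q, E) Γ(X, ρ ⁻¹ᵁ E) Γ(X, ρ ⁻¹ᵁ D) :=
    .of_algebraMap_eq fun x => congr($(ρ.naturality (homOfLE hDE).op).hom x)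
  have l1 : IsLocalization.Away h Γ(Q, D) := hE.isLocalization_of_eq_basicOpen h (homOfLE hDE) rfl
  have l2 : IsLocalization.Away (algebraMap Γ(Q, E) Γ(X, ρ ⁻¹ᵁ E) h) Γ(X, ρ ⁻¹ᵁ D) :=
    hρE.isLocalization_of_eq_basicOpen _ (homOfLE (ρ.preimage_mono hDE)) (Scheme.preimage_basicOpen ρ h)
  have hfu : Algebra.FormallyUnramified Γ(Q, D) Γ(X, ρ ⁻¹ᵁ D) := by
    have : Algebra.Etale Γ(Q, D) Γ(X, ρ ⁻¹ᵁ D) := het
    infer_instance
  have hfin : Module.Finite Γ(Q, E) Γ(X, ρ ⁻¹ᵁ E) := IsFinite.finite_app ρ E hE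
  obtain ⟨n, hn⟩ := exists_pow_smul (S := Γ(X, ρ ⁻¹ᵁ E)) h
    (fun s => exists_pow_smul_D (C' := Γ(Q, D)) (S' := Γ(X, ρ ⁻¹ᵁ D)) h s)
  let aRC : Algebra Γ(P, U) Γ(Q, E) := (π.app U).hom.toAlgebra
  let aRS : Algebra Γ(P, U) Γ(X, ρ ⁻¹ᵁ E) := ((ρ ≫ π).app U).hom.toAlgebra
  have t3 : IsScalarTower Γ(P, U) Γ(Q, E) Γ(X, ρ ⁻¹ᵁ E) := .of_algebraMap_eq fun _ => rfl
  have hint : Algebra.IsIntegral Γ(P, U) Γ(Q, E) := by
    have : Module.Finite Γ(P, U) Γ(Q, E) := IsFinite.finite_app π U hU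
    infer_instance
  have hfu' : Algebra.FormallyUnramified Γ(P, U) Γ(Q, E) := by
    have := HasRingHomProperty.appLE @AlgebraicGeometry.FormallyUnramified π inferInstance ⟨U, hU⟩ ⟨E, hE⟩ le_rfl
    rw [Scheme.Hom.appLE_eq_app] at this
    exact this
  exact exists_killer (R := Γ(P, U)) (C := Γ(Q, E)) (S := Γ(X, ρ ⁻¹ᵁ E)) (h ^ n) (pow_ne_zero n h0) hn

/-- Local bases of a finite flat morphism, after étale localization. -/
theorem exists_isBas {X P₁ P : Scheme.{u}} (ρ₁ : X ⟶ P₁) [IsFinite ρ₁] [Flat ρ₁] [LocallyOfFinitePresentation ρ₁]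
    (j : P₁ ⟶ P) [IsClosedImmersion j] (z : P₁) :
    ∃ O : P.Opens, j z ∈ O ∧ ∀ (V : Scheme.{u}) (v : V ⟶ P) (_ : IsAffine V) (_ : ∀ x, v x ∈ O)
      (u : pullback v (ρ₁ ≫ j) ⟶ pullback v j) (_ : u ≫ pullback.fst v j = pullback.fst v (ρ₁ ≫ j))
      (_ : u ≫ pullback.snd v j = pullback.snd v (ρ₁ ≫ j) ≫ ρ₁),
      ∃ (m : ℕ) (c : Fin m → Γ(pullback v (ρ₁ ≫ j), ⊤)), IsBas u.appTop.hom c := by
  have i1 : IsFinite (Over.mk ρ₁).hom := inferInstanceAs (IsFinite ρ₁)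
  have i2 : Flat (Over.mk ρ₁).hom := inferInstanceAs (Flat ρ₁)
  have i3 : LocallyOfFinitePresentation (Over.mk ρ₁).hom := inferInstanceAs (LocallyOfFinitePresentation ρ₁)
  obtain ⟨O₁, hO₁, hz, h1, h2⟩ := K550.FinFlat.exists_free_nhd (Over.mk ρ₁) z
  obtain ⟨O', hO', hO''⟩ := j.isClosedEmbedding.isInducing.isOpen_iff.1 O₁.isOpen
  let O : P.Opens := ⟨O', hO'⟩
  have hOO : j ⁻¹ᵁ O = O₁ := TopologicalSpace.Opens.ext hO''
  refine ⟨O, ?_, fun V v hV hv u hu1 hu2 => ?_⟩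
  · change z ∈ j ⁻¹ᵁ O
    rw [hOO]
    exact hz
  · have sq : IsPullback u (pullback.snd v (ρ₁ ≫ j)) (pullback.snd v j) ρ₁ := by
      have h3 : IsPullback (u ≫ pullback.fst v j) (pullback.snd v (ρ₁ ≫ j)) v (ρ₁ ≫ j) := by
        rw [hu1]
        exact IsPullback.of_hasPullback _ _
      exact IsPullback.of_right h3 hu2 (IsPullback.of_hasPullback v j)
    have e : (⊤ : (pullback v j).Opens) ≤ pullback.snd v j ⁻¹ᵁ O₁ := by
      intro y _
      rw [← hOO]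
      change j (pullback.snd v j y) ∈ O
      rw [← Scheme.Hom.comp_apply, ← pullback.condition, Scheme.Hom.comp_apply]
      exact hv _
    have hpo := Groth.Agent.Pi1C.EtTraceSch.isPushout_appLE sq.flip hO₁ (isAffineOpen_top _) e
      (Groth.Agent.Pi1C.EtTraceSch.preimage_le' sq.flip.w e)
    obtain ⟨m, c, hc⟩ : ∃ (m : ℕ) (c : Fin m → Γ(X, ρ₁ ⁻¹ᵁ O₁)), IsBas (ρ₁.app O₁).hom c :=
      @CovAlg.exists_isBas Γ(P₁, O₁) Γ(X, ρ₁ ⁻¹ᵁ O₁) _ _ (ρ₁.app O₁).hom.toAlgebra h1 h2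
    exact ⟨m, _, hc.baseChange hpo⟩

end K609.CovGeo
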