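import Groth.Agent.EtCoh.K609.FinSepFF
import Groth.Agent.Variety.K425.GenEtale
import Groth.Agent.Variety.K658.RelDimComp
import Groth.Agent.Sga5.ProjReg
import Groth.Agent.CohqB.ProjBC
import Groth.Agent.S10882
import Groth.Agent.VarietyA.RegSmoothSch
import Groth.Agent.Ega4A.CMFields
import Groth.Prelude.Def_Neron

/-!
# Finite flat generically étale morphisms to projective space

Over a field of characteristic `p`: a smooth integral closed subscheme `X` of projective space, of relative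
dimension `d`, has a finite flat surjective generically étale morphism to projective `d`-space.
-/

set_option autoImplicit false
universe u

open CategoryTheory CategoryTheory.Limits AlgebraicGeometry Topology CohB1
open Groth.Agent Groth.Agent.VarietyB Groth.Agent.VarietyB.ProjGlue K426.ProjCut K426.LinProj K426

namespace K609.FinSep

open Picfga.ProjGlue

variable {k : Type u} [Field k] {X : Scheme.{u}} {n : ℕ}

section

variable (g : X ⟶ ProjSpace n k) {d : ℕ} (l : Fin (d + 1) → MvPolynomial (Fin (n + 1)) k) {m : ℕ}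
  (hm : 0 < m) (hl : ∀ i, (l i).IsHomogeneous m) (hcov : ∀ x : X, ∃ i, l i ∉ idl (g x))

theorem exists_perturb (p : ℕ) (hp : 0 < p) (mj : Fin d → ℕ) (a : Fin d → MvPolynomial (Fin (n + 1)) k)
    (ha : ∀ j, (a j).IsHomogeneous (mj j * m)) (hl : ∀ i, (l i).IsHomogeneous m)
    (hcov : ∀ x : X, ∃ i, l i ∉ idl (g x)) :
    ∃ (N : ℕ) (F : Fin (d + 1) → MvPolynomial (Fin (n + 1)) k), 0 < N ∧ (∀ j, mj j < p * N) ∧
      (∀ i, (F i).IsHomogeneous (p * N * m)) ∧ (∀ x : X, ∃ i, F i ∉ idl (g x)) ∧ F 0 = l 0 ^ (p * N) ∧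
      ∀ j : Fin d, F j.succ = l j.succ ^ (p * N) + a j * l 0 ^ (p * N - mj j) := by
  let N := (∑ j, mj j) + 1
  have hN : ∀ j, mj j < p * N := fun j => by
    have h1 : mj j ≤ ∑ j, mj j := Finset.single_le_sum (f := mj) (fun _ _ => Nat.zero_le _) (Finset.mem_univ j)
    have h2 : N ≤ p * N := Nat.le_mul_of_pos_left _ hp
    change mj j < p * N
    exact lt_of_lt_of_le (Nat.lt_succ_of_le h1) h2
  refine ⟨N, Fin.cons (l 0 ^ (p * N)) (fun j => l j.succ ^ (p * N) + a j * l 0 ^ (p * N - mj j)),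
    Nat.succ_pos _, hN, fun i => ?_, fun x => ?_, rfl, fun j => rfl⟩
  · induction i using Fin.cases with
    | zero => rw [mul_comm (p * N)]; exact (hl 0).pow _
    | succ j =>
      refine MvPolynomial.IsHomogeneous.add ?_ ?_
      · rw [mul_comm (p * N)]; exact (hl _).pow _
      · have h1 := (ha j).mul ((hl 0).pow (p * N - mj j))
        have h2 : mj j * m + m * (p * N - mj j) = p * N * m := by
          have h3 := hN j
          rw [mul_comm m, ← add_mul, Nat.add_sub_cancel' h3.le]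
        rw [h2] at h1
        exact h1
  · by_cases h0 : l 0 ∈ idl (g x)
    · obtain ⟨i, hi⟩ := hcov x
      have hne : i ≠ 0 := by rintro rfl; exact hi h0
      obtain ⟨j, rfl⟩ := Fin.exists_succ_eq.2 hne
      refine ⟨j.succ, fun hF => hi ?_⟩
      have h1 : a j * l 0 ^ (p * N - mj j) ∈ idl (g x) :=
        Ideal.mul_mem_left _ _ (Ideal.pow_mem_of_mem _ h0 _ (Nat.sub_pos_of_lt (hN j)))
      exact (isPrime_idl (g x)).mem_of_pow_mem _ ((Ideal.add_mem_iff_left _ h1).1 hF)
    · exact ⟨0, fun h => h0 ((isPrime_idl (g x)).mem_of_pow_mem _ h)⟩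

end

section frac

variable {A : Type u} {σ : Type*} [CommRing A] [SetLike σ A] [AddSubgroupClass σ A] {𝒜 : ℕ → σ}
  [GradedRing 𝒜]

theorem le_pow (l0 : A) (M : ℕ) : Proj.basicOpen 𝒜 l0 ≤ Proj.basicOpen 𝒜 (l0 ^ M) :=
  fun x hx h => hx ((x : ProjectiveSpectrum 𝒜).isPrime.mem_of_pow_mem M h)

theorem frac_perturb {m M q : ℕ} (hq : q ≤ M) {l0 l1 a F0 F1 : A} (h0 : l0 ∈ 𝒜 m) (h1 : l1 ∈ 𝒜 m)
    (ha : a ∈ 𝒜 (q • m)) (e0 : F0 = l0 ^ M) (e1 : F1 = l1 ^ M + a * l0 ^ (M - q))
    (hF : ∃ n, F1 ∈ 𝒜 n ∧ F0 ∈ 𝒜 n) (hT : Proj.basicOpen 𝒜 l0 ≤ Proj.basicOpen 𝒜 F0) :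
    frac F1 F0 hF (Proj.basicOpen 𝒜 l0) hT =
      frac l1 l0 ⟨m, h1, h0⟩ _ le_rfl ^ M +
        frac a (l0 ^ q) ⟨q • m, ha, SetLike.pow_mem_graded q h0⟩ _ (le_pow l0 q) := by
  subst e0 e1
  have hb : a * l0 ^ (M - q) ∈ 𝒜 (M • m) := by
    have h2 := SetLike.mul_mem_graded ha (SetLike.pow_mem_graded (M - q) h0)
    rwa [← add_smul, Nat.add_sub_cancel' hq] at h2
  rw [frac_add (l1 ^ M) (a * l0 ^ (M - q)) (l0 ^ M)
    ⟨M • m, SetLike.pow_mem_graded M h1, SetLike.pow_mem_graded M h0⟩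
    ⟨M • m, hb, SetLike.pow_mem_graded M h0⟩,
    frac_pow l1 l0 ⟨m, h1, h0⟩ M ⟨M • m, SetLike.pow_mem_graded M h1, SetLike.pow_mem_graded M h0⟩ _ le_rfl hT]
  congr 1
  refine frac_eq _ _ _ _ _ _ _ _ _ ?_
  rw [mul_assoc, ← pow_add, Nat.sub_add_cancel hq]

end frac

section main

variable {d : ℕ} (ι : X ⟶ ProjSpace n k) [IsClosedImmersion ι] [IsIntegral X]
  [SmoothOfRelativeDimension d (ι ≫ ProjSpace.toSpec n k)]

theorem genericPoint_eq_gpt : genericPoint (ProjSpace d k) = CohqA.ProjDim.gpt k d :=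
  (genericPoint_spec (ProjSpace d k)).eq (ProjGen.closure_gpt k d)

omit [SmoothOfRelativeDimension d (ι ≫ ProjSpace.toSpec n k)] in
theorem apply_genericPoint (hdim : topologicalKrullDim X = d) (ρ : X ⟶ ProjSpace d k)
    (hρ : ρ ≫ ProjSpace.toSpec d k = ι ≫ ProjSpace.toSpec n k) [IsFinite ρ] (x : X) :
    ρ x = genericPoint (ProjSpace d k) ↔ x = genericPoint X := by
  let _ : X.Over (Spec (CommRingCat.of k)) := ⟨ι ≫ ProjSpace.toSpec n k⟩
  have h0 : IsProper (ProjSpace.toSpec n k) := ProjSpaceProper.isProper_toSpec n k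
  have hlft : LocallyOfFiniteType (X ↘ Spec (CommRingCat.of k)) :=
    inferInstanceAs (LocallyOfFiniteType (ι ≫ ProjSpace.toSpec n k))
  have hπ : ρ ≫ (ProjSpace d k ↘ Spec (CommRingCat.of k)) = X ↘ Spec (CommRingCat.of k) := hρ
  have h1 : DimSch.trd k X (genericPoint X) = d := by
    have h2 := DimKit.dim_closure k X (genericPoint X)
    have h3 : topologicalKrullDim (Set.univ : Set X) = topologicalKrullDim X :=
      IsHomeomorph.topologicalKrullDim_eq _ (Homeomorph.Set.univ X).isHomeomorph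
    rw [(genericPoint_spec X).def, h3, hdim] at h2
    exact_mod_cast h2.symm
  have h4 := trd_eq_of_quasiFinite k ρ hπ x
  rw [genericPoint_eq_gpt]
  constructor
  · intro h
    rw [h, ProjGen.trd_gpt] at h4
    by_contra hne
    have h5 := Cut.trd_lt k (genericPoint_specializes x) (Ne.symm hne)
    omega
  · rintro rfl
    by_contra hne
    have h5 := Cut.trd_lt k (CohqA.ProjDim.gpt_specializes (ρ (genericPoint X))) (Ne.symm hne)
    rw [ProjGen.trd_gpt] at h5
    omega

open CoordData K425.GenEtale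

/-- compatibility of the structure homomorphisms of function fields -/
theorem ffMap_ffBase {Y : Scheme.{u}} [IsIntegral Y] (q : Y ⟶ Spec (.of k)) (f : X ⟶ Spec (.of k)) (ρ : X ⟶ Y)
    (hρ : ρ ≫ q = f) (e : ρ (genericPoint X) = genericPoint Y) : (ffMap ρ e).comp (ffBase q) = ffBase f := by
  subst hρ
  ext a
  change ffMap ρ e (Y.presheaf.germ ⊤ _ trivial (baseHom q ⊤ a)) = X.presheaf.germ ⊤ _ trivial (baseHom (ρ ≫ q) ⊤ a)
  rw [ffMap_germ ρ e (V := ⊤) (W := ⊤) le_top trivial trivial]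
  congr 1
  rw [← appLE_eq_baseHom q ⊤ ⊤ le_top, ← appLE_eq_baseHom (ρ ≫ q) ⊤ ⊤ le_top]
  change (q.appLE ⊤ ⊤ le_top ≫ ρ.appLE ⊤ ⊤ le_top) _ = ((ρ ≫ q).appLE ⊤ ⊤ le_top) _
  rw [Scheme.Hom.appLE_comp_appLE]

omit [SmoothOfRelativeDimension d (ι ≫ ProjSpace.toSpec n k)] in
theorem exists_start (hdim : topologicalKrullDim X = d) :
    ∃ (m : ℕ) (l : Fin (d + 1) → MvPolynomial (Fin (n + 1)) k), 0 < m ∧ (∀ i, (l i).IsHomogeneous m) ∧
      (∀ x : X, ∃ i, l i ∉ idl (ι x)) ∧ l 0 ∉ idl (ι (genericPoint X)) := by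
  let _ : X.Over (Spec (CommRingCat.of k)) := ⟨ι ≫ ProjSpace.toSpec n k⟩
  have h0 : IsProper (ProjSpace.toSpec n k) := ProjSpaceProper.isProper_toSpec n k
  have hlft : LocallyOfFiniteType (X ↘ Spec (CommRingCat.of k)) :=
    inferInstanceAs (LocallyOfFiniteType (ι ≫ ProjSpace.toSpec n k))
  have hι : ι ≫ (ProjSpace n k ↘ Spec (CommRingCat.of k)) = X ↘ Spec (CommRingCat.of k) := rfl
  obtain ⟨m, l, hm, hl, hl'⟩ := FinSepForms.exists_forms (d + 1) (Set.range ι) ι.isClosedMap.isClosed_range (by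
    rintro _ ⟨x, rfl⟩
    rw [trd_eq_of_quasiFinite k ι hι x]
    have h1 := DimKit.trd_le_dim k X x
    rw [hdim] at h1
    have h2 : DimSch.trd k X x ≤ d := by exact_mod_cast h1
    omega)
  obtain ⟨i, hi⟩ := hl' (ι (genericPoint X)) ⟨_, rfl⟩
  refine ⟨m, fun j => l (Equiv.swap 0 i j), hm, fun j => hl _, fun x => ?_, ?_⟩
  · obtain ⟨j, hj⟩ := hl' (ι x) ⟨x, rfl⟩
    exact ⟨Equiv.swap 0 i j, by simpa using hj⟩
  · simpa using hi

theorem exists_separable (p : ℕ) [Fact p.Prime] [CharP k p] : ∃ (ρ : X ⟶ ProjSpace d k)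
    (_ : ρ ≫ ProjSpace.toSpec d k = ι ≫ ProjSpace.toSpec n k) (_ : IsFinite ρ)
    (e : ρ (genericPoint X) = genericPoint (ProjSpace d k)),
    @Algebra.IsSeparable (ProjSpace d k).functionField X.functionField _ _ (ffMap ρ e).toAlgebra := by
  have hdim : topologicalKrullDim X = d :=
    K658.RelDimComp.topologicalKrullDim_eq d (ι ≫ ProjSpace.toSpec n k)
  obtain ⟨m, l, hm, hl, hcov, hξ⟩ := exists_start ι hdim
  let f := ι ≫ ProjSpace.toSpec n k
  let T : (ProjSpace n k).Opens := Proj.basicOpen (polyGrading n k) (l 0)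
  let U0 : X.Opens := ι ⁻¹ᵁ T
  have hξ0 : genericPoint X ∈ U0 := hξ
  have hmem : ∀ i, l i ∈ polyGrading n k m := fun i => (MvPolynomial.mem_homogeneousSubmodule _ _).mpr (hl i)
  have hTaff : IsAffineOpen T := Proj.isAffineOpen_basicOpen (polyGrading n k) (l 0) (hmem 0) hm
  have hU0 : IsAffineOpen U0 := hTaff.preimage ι
  have : Nonempty U0 := ⟨⟨_, hξ0⟩⟩
  let _ : Algebra k X.functionField := (ffBase f).toAlgebra
  obtain ⟨hfin, hrank⟩ := finrank_ff f d
  have hfr : IsFractionRing Γ(X, U0) X.functionField := functionField_isFractionRing_of_isAffineOpen X U0 hU0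
  let _ : Algebra k Γ(X, U0) := (baseHom f U0).toAlgebra
  have htow : IsScalarTower k Γ(X, U0) X.functionField :=
    IsScalarTower.of_algebraMap_eq' (germ_baseHom f U0 hξ0).symm
  obtain ⟨r, hr⟩ := FinSepAlg.exists_span k Γ(X, U0) X.functionField d hrank
  have hcl : IsClosedImmersion (Y := Proj (polyGrading n k)) ι := ‹IsClosedImmersion ι›
  choose q a ha hra using fun j => exists_frac (𝒜 := polyGrading n k) ι hm (hmem 0) (r j)
  obtain ⟨N, F, hN, hqN, hF, hFcov, hF0, hF1⟩ := exists_perturb ι l p (Nat.Prime.pos Fact.out) q a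
    (fun j => (MvPolynomial.mem_homogeneousSubmodule _ _).mp (by simpa using ha j)) hl hcov
  have hFcov' : ⨆ i, ι ⁻¹ᵁ Proj.basicOpen (polyGrading n k) (F i) = ⊤ := by
    rw [eq_top_iff]
    intro x _
    obtain ⟨i, hi⟩ := hFcov x
    exact TopologicalSpace.Opens.mem_iSup.mpr ⟨i, hi⟩
  have hpos : 0 < p * N * m := Nat.mul_pos (Nat.mul_pos (Nat.Prime.pos Fact.out) hN) hm
  have hfinρ := isFinite_proj ι F hF hFcov' hpos
  have hρ := proj_toSpec ι F hF hFcov'
  have e := (apply_genericPoint ι hdim (proj ι F hF hFcov') hρ (genericPoint X)).2 rfl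
  refine ⟨proj ι F hF hFcov', hρ, hfinρ, e, ?_⟩
  let _ : Algebra (ProjSpace d k).functionField X.functionField := (ffMap (proj ι F hF hFcov') e).toAlgebra
  let _ : Algebra k (ProjSpace d k).functionField := (ffBase (ProjSpace.toSpec d k)).toAlgebra
  have htow2 : IsScalarTower k (ProjSpace d k).functionField X.functionField :=
    IsScalarTower.of_algebraMap_eq' (ffMap_ffBase (ProjSpace.toSpec d k) f _ hρ e).symm
  have h0 : IsProper (ProjSpace.toSpec n k) := ProjSpaceProper.isProper_toSpec n k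
  have hlft : LocallyOfFiniteType f := inferInstanceAs (LocallyOfFiniteType (ι ≫ ProjSpace.toSpec n k))
  have hess : Algebra.EssFiniteType k X.functionField := essFiniteType_ff f
  have hch : CharP X.functionField p := charP_of_injective_algebraMap (algebraMap k X.functionField).injective p
  let V : (ProjSpace d k).Opens := Proj.basicOpen (polyGrading d k) (MvPolynomial.X 0)
  have hVX : proj ι F hF hFcov' ⁻¹ᵁ V = ι ⁻¹ᵁ Proj.basicOpen (polyGrading n k) (F 0) :=
    proj_preimage ι F hF hFcov' 0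
  have hξF : genericPoint X ∈ ι ⁻¹ᵁ Proj.basicOpen (polyGrading n k) (F 0) := by
    rw [hF0]
    exact le_pow (𝒜 := polyGrading n k) (l 0) (p * N) hξ
  have hηV : genericPoint (ProjSpace d k) ∈ V := by
    rw [← e]
    change genericPoint X ∈ proj ι F hF hFcov' ⁻¹ᵁ V
    rw [hVX]
    exact hξF
  let y : Fin d → (ProjSpace d k).functionField := fun j =>
    (ProjSpace d k).presheaf.germ V _ hηV (ProjStd.ratio (Fin (d + 1)) k 0 j.succ)
  have hTF : T ≤ Proj.basicOpen (polyGrading n k) (F 0) := by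
    rw [hF0]
    exact le_pow (𝒜 := polyGrading n k) (l 0) (p * N)
  have hy : ∀ j, ∃ t : X.functionField, algebraMap (ProjSpace d k).functionField X.functionField (y j) =
      t ^ (p * N) + algebraMap Γ(X, U0) X.functionField (r j) := by
    intro j
    refine ⟨X.presheaf.germ U0 _ hξ0 (ι.app T (frac (l j.succ) (l 0) ⟨m, hmem _, hmem _⟩ T le_rfl)), ?_⟩
    have hFmem : ∀ i, F i ∈ polyGrading n k (p * N * m) := fun i =>
      (MvPolynomial.mem_homogeneousSubmodule _ _).mpr (hF i)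
    have e1 : algebraMap (ProjSpace d k).functionField X.functionField (y j) =
        X.presheaf.germ (ι ⁻¹ᵁ Proj.basicOpen (polyGrading n k) (F 0)) _ hξF
          (ι.app (Proj.basicOpen (polyGrading n k) (F 0))
            (frac (F j.succ) (F 0) ⟨p * N * m, hFmem _, hFmem _⟩ _ le_rfl)) := by
      change ffMap (proj ι F hF hFcov') e ((ProjSpace d k).presheaf.germ V _ hηV _) = _
      rw [ffMap_germ (proj ι F hF hFcov') e (V := V) hVX.ge hηV hξF]
      congr 1
      exact Ega2.PnMap.appLE_ratio (formData (𝒜 := polyGrading n k) ι F hFmem hFcov')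
        (ι ≫ ProjSpace.toSpec n k) 0 j.succ hVX.ge
    have e2 := ProjStd.map_app ι hTF (ι.preimage_mono hTF)
      (frac (F j.succ) (F 0) ⟨p * N * m, hFmem _, hFmem _⟩ _ le_rfl)
    have e3 : X.presheaf.germ (ι ⁻¹ᵁ Proj.basicOpen (polyGrading n k) (F 0)) _ hξF
          (ι.app (Proj.basicOpen (polyGrading n k) (F 0))
            (frac (F j.succ) (F 0) ⟨p * N * m, hFmem _, hFmem _⟩ _ le_rfl)) =
        X.presheaf.germ U0 _ hξ0 (ι.app T (frac (F j.succ) (F 0) ⟨p * N * m, hFmem _, hFmem _⟩ T hTF)) := by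
      rw [← TopCat.Presheaf.germ_res_apply X.presheaf (homOfLE (ι.preimage_mono hTF)) _ hξ0]
      exact congrArg (X.presheaf.germ U0 _ hξ0) e2
    let Φ : Γ(Proj (polyGrading n k), Proj.basicOpen (polyGrading n k) (l 0)) →+* X.functionField :=
      (X.presheaf.germ U0 _ hξ0).hom.comp (ι.app T).hom
    have e4 : Φ (frac (F j.succ) (F 0) ⟨p * N * m, hFmem _, hFmem _⟩ T hTF) =
        Φ (frac (l j.succ) (l 0) ⟨m, hmem _, hmem _⟩ T le_rfl) ^ (p * N) +
        Φ (frac (a j) (l 0 ^ q j) ⟨q j • m, ha j, SetLike.pow_mem_graded (q j) (hmem 0)⟩ T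
          (le_pow (l 0) (q j))) := by
      rw [← map_pow, ← map_add]
      exact congrArg Φ (frac_perturb (hqN j).le (hmem 0) (hmem j.succ) (ha j) hF0 (hF1 j) _ hTF)
    have e5 : Φ (frac (a j) (l 0 ^ q j) ⟨q j • m, ha j, SetLike.pow_mem_graded (q j) (hmem 0)⟩ T
          (le_pow (l 0) (q j))) = algebraMap Γ(X, U0) X.functionField (r j) :=
      congrArg (X.presheaf.germ U0 _ hξ0).hom (hra j)
    rw [e1, e3]
    exact e4.trans (congrArg _ e5)
  refine FinSepAlg.isSeparable k (ProjSpace d k).functionField X.functionField y ?_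
  have h1 : (fun j => KaehlerDifferential.D k X.functionField
      (algebraMap (ProjSpace d k).functionField X.functionField (y j))) =
      fun j => KaehlerDifferential.D k X.functionField (algebraMap Γ(X, U0) X.functionField (r j)) := by
    funext j
    obtain ⟨t, ht⟩ := hy j
    rw [ht, map_add, FinSepAlg.D_pow_char k X.functionField p t N, zero_add]
  rw [h1]
  exact hr

omit [Field k] [IsIntegral X] in
theorem dim_irr [IrreducibleSpace X] (hdim : topologicalKrullDim X = d) (Z : Set X) (hZ : Z ∈ irreducibleComponents X) :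
    topologicalKrullDim Z = d := by
  rw [irreducibleComponents_eq_singleton, Set.mem_singleton_iff] at hZ
  subst hZ
  rw [← hdim]
  exact IsHomeomorph.topologicalKrullDim_eq _ (Homeomorph.Set.univ X).isHomeomorph

omit [AlgebraicGeometry.IsIntegral X] in
theorem etale_morphismRestrict (ρ : X ⟶ ProjSpace d k) (U : X.Opens) (h : Etale (U.ι ≫ ρ))
    (V : (ProjSpace d k).Opens) (hV : ρ ⁻¹ᵁ V ≤ U) : Etale (ρ ∣_ V) := by
  have h1 : (ρ ∣_ V) ≫ V.ι = X.homOfLE hV ≫ U.ι ≫ ρ := by
    rw [morphismRestrict_ι, Scheme.homOfLE_ι_assoc]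
  have h2 : Etale ((ρ ∣_ V) ≫ V.ι) := by rw [h1]; infer_instance
  exact Etale.of_comp _ V.ι

theorem exists_finite_generically_etale_flat (p : ℕ) [Fact p.Prime] [CharP k p] :
    ∃ ρ : X ⟶ ProjSpace d k, ρ ≫ ProjSpace.toSpec d k = ι ≫ ProjSpace.toSpec n k ∧
      IsFinite ρ ∧ Flat ρ ∧ Function.Surjective ρ ∧
      ∃ V : (ProjSpace d k).Opens, (V : Set (ProjSpace d k)).Nonempty ∧ Etale (ρ ∣_ V) := by
  obtain ⟨ρ, hρ, hfin, e, hsep⟩ := exists_separable (d := d) ι p
  have hdim : topologicalKrullDim X = d :=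
    K658.RelDimComp.topologicalKrullDim_eq d (ι ≫ ProjSpace.toSpec n k)
  have hP := CohqA.ProjDim.isNoetherian k d
  obtain ⟨U, hU, hUet⟩ := exists_etale_of_isSeparable ρ e hsep
  refine ⟨ρ, hρ, hfin, ?_, ?_, ⟨(ρ '' (U : Set X)ᶜ)ᶜ, (ρ.isClosedMap _ U.isOpen.isClosed_compl).isOpen_compl⟩, ?_, ?_⟩
  · have h0 : IsProper (ProjSpace.toSpec n k) := ProjSpaceProper.isProper_toSpec n k
    have h0' : IsProper (ProjSpace.toSpec d k) := ProjSpaceProper.isProper_toSpec d k
    have h1 : Smooth (ι ≫ ProjSpace.toSpec n k) := SmoothOfRelativeDimension.smooth d _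
    have hlft : LocallyOfFiniteType (ρ ≫ ProjSpace.toSpec d k) := by rw [hρ]; infer_instance
    refine S10882.result k (ProjSpace.toSpec d k) ρ (Sga5.ProjReg.isRegularLocalRing_stalk d k) (fun x => ?_) d d
      le_rfl (dim_irr hdim) (dim_irr (S10829.result k d)) (fun y Z hZ => ?_)
    · have h2 : IsRegularLocalRing (X.presheaf.stalk x) :=
        VarietyA.RegSmoothSch.isRegularLocalRing_stalk_of_mem_smoothLocus (ι ≫ ProjSpace.toSpec n k) x (by
          rw [Scheme.Hom.smoothLocus_eq_top]; trivial)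
      exact Ega4A.CMFields.isCohenMacaulayLocalRing_of_isRegularLocalRing _
    · have h3 : DiscreteTopology (ρ ⁻¹' {y}) := (ρ.fiberHomeo y).symm.isEmbedding.discreteTopology
      have h4 : Nonempty Z := hZ.1.nonempty.to_subtype
      rw [Nat.sub_self]
      refine le_antisymm (topologicalKrullDim_zero_of_discreteTopology Z) ?_
      obtain ⟨z⟩ := h4
      have h5 : Nonempty (TopologicalSpace.IrreducibleCloseds Z) :=
        ⟨⟨closure {z}, isIrreducible_singleton.closure, isClosed_closure⟩⟩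
      exact Order.krullDim_nonneg
  · have h1 : IsClosed (Set.range ρ) := ρ.isClosedMap.isClosed_range
    have h2 : Set.range ρ = Set.univ := by
      rw [Set.eq_univ_iff_forall]
      intro y
      have h3 : genericPoint (ProjSpace d k) ∈ Set.range ρ := ⟨_, e⟩
      exact (genericPoint_specializes y).mem_closed h1 h3
    exact Set.range_eq_univ.1 h2
  · refine ⟨genericPoint (ProjSpace d k), ?_⟩
    rintro ⟨x, hx, hx'⟩
    rw [apply_genericPoint ι hdim ρ hρ x] at hx'
    subst hx'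
    exact hx (((genericPoint_spec X).mem_open_set_iff U.isOpen).2 (by simpa using hU))
  · refine etale_morphismRestrict ρ U hUet _ fun x hx => ?_
    by_contra hx'
    exact hx ⟨x, hx', rfl⟩

end main

/-- Finite flat generically étale morphisms to projective space. -/
theorem exists_finite_generically_etale (k : Type u) [Field k] (p : ℕ) [Fact p.Prime] [CharP k p] {X : Scheme.{u}}
    [AlgebraicGeometry.IsIntegral X] {n : ℕ} (ι : X ⟶ CohB1.ProjSpace n k) [IsClosedImmersion ι] (d : ℕ)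
    [SmoothOfRelativeDimension d (ι ≫ CohB1.ProjSpace.toSpec n k)] :
    ∃ ρ : X ⟶ CohB1.ProjSpace d k, ρ ≫ CohB1.ProjSpace.toSpec d k = ι ≫ CohB1.ProjSpace.toSpec n k ∧
      IsFinite ρ ∧ Flat ρ ∧ Function.Surjective ρ ∧
      ∃ V : (CohB1.ProjSpace d k).Opens, (V : Set (CohB1.ProjSpace d k)).Nonempty ∧ Etale (ρ ∣_ V) :=
  exists_finite_generically_etale_flat ι p

/-- Finite flat generically étale morphisms to projective space, projective case. -/
theorem exists_finite_generically_etale' (k : Type u) [Field k] (p : ℕ) [Fact p.Prime] [CharP k p]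
    (X : Scheme.{u}) (f : X ⟶ Spec (.of k)) [AlgebraicGeometry.IsIntegral X]
    (hproj : Neron.IsProjectiveOver k (Over.mk f)) (d : ℕ) [SmoothOfRelativeDimension d f] :
    ∃ ρ : X ⟶ CohB1.ProjSpace d k, ρ ≫ CohB1.ProjSpace.toSpec d k = f ∧
      IsFinite ρ ∧ Flat ρ ∧ Function.Surjective ρ ∧
      ∃ V : (CohB1.ProjSpace d k).Opens, (V : Set (CohB1.ProjSpace d k)).Nonempty ∧ Etale (ρ ∣_ V) := by
  obtain ⟨n, i, hi, hf⟩ := hproj
  let ι : X ⟶ CohB1.ProjSpace n k := i ≫ (CohqB.ProjBC.projSpaceOverIso n k).hom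
  have hι : ι ≫ CohB1.ProjSpace.toSpec n k = f := by
    rw [Category.assoc, CohqB.ProjBC.projSpaceOverIso_hom_toSpec]
    exact hf
  have h1 : IsClosedImmersion i := hi
  have h2 : IsClosedImmersion ι := inferInstance
  have h3 : SmoothOfRelativeDimension d (ι ≫ CohB1.ProjSpace.toSpec n k) := by rw [hι]; infer_instance
  obtain ⟨ρ, hρ, h⟩ := exists_finite_generically_etale k p ι d
  exact ⟨ρ, hρ.trans hι, h⟩

end K609.FinSep
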