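import Groth.Agent.EtCoh.K609.CoverGeo
import Groth.Agent.EtCoh.K609.FinSep
import Groth.Agent.Fga.FSGeo
import Groth.Agent.EtCoh.K56.ZW
import Groth.Agent.EtCoh.K56.ShS
import Groth.Agent.EtCoh.K593.Pack
import Groth.Agent.EtCoh.K958.P2Charts
import Groth.Agent.EtCoh.K961.Key
import Mathlib.RingTheory.Etale.Field

/-!
# Projective surfaces over finite fields as covers of the projective plane of level `N`
-/

set_option autoImplicit false

universe u

open CategoryTheory CategoryTheory.Limits AlgebraicGeometry Opposite TopologicalSpace KaehlerDifferential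
open K56.T4 K593.T3

noncomputable section

namespace K609.Cover

open K609.CovAlg K609.CovGeo

section fields

variable (k : Type u) [Field k] [Finite k] (p : ℕ) [hp : Fact p.Prime] [CharP k p]

/-- `F_p → k`. -/
def iota : Fp.{u} p →+* k := (ZMod.castHom (dvd_refl p) k).comp ULift.ringEquiv.toRingHom

theorem iota_finite : (iota k p).Finite := by
  let := (iota k p).toAlgebra
  have : Module.Finite (Fp.{u} p) k := Module.Finite.of_finite
  exact this

theorem iota_etale : (iota k p).Etale := by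
  let := (iota k p).toAlgebra
  have h1 : Module.Finite (Fp.{u} p) k := Module.Finite.of_finite
  have h3 : Finite (Fp.{u} p) := inferInstance
  have h4 : Algebra.IsSeparable (Fp.{u} p) k := Algebra.IsAlgebraic.isSeparable_of_perfectField
  have h5 : Algebra.FormallyEtale (Fp.{u} p) k := Algebra.FormallyEtale.of_isSeparable _ _
  have h6 : Algebra.FinitePresentation (Fp.{u} p) k := Algebra.FinitePresentation.of_finiteType.1 inferInstance
  exact (⟨h5, h6⟩ : Algebra.Etale (Fp.{u} p) k)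

/-- `P^2_k → P^2_(F_p)`. -/
def q₀ : CohB1.ProjSpaceOver 2 (Spec (.of k)) ⟶ CohB1.ProjSpaceOver 2 (Spec (.of (Fp.{u} p))) :=
  FGA.projMap 2 (Spec.map (CommRingCat.ofHom (iota k p)))

/-- `P^2_k → P^2_(F_p)`. -/
def q : CohB1.ProjSpace 2 k ⟶ CohB1.ProjSpaceOver 2 (Spec (.of (Fp.{u} p))) :=
  (Groth.Agent.CohqB.ProjBC.projSpaceOverIso 2 k).inv ≫ q₀ k p

omit [Finite k] in
theorem of_iota {Pr : MorphismProperty Scheme.{u}} [Pr.IsStableUnderBaseChange] [Pr.RespectsIso]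
    (h : Pr (Spec.map (CommRingCat.ofHom (iota k p)))) : Pr (q k p) := by
  have h1 : Pr (q₀ k p) := MorphismProperty.of_isPullback (Groth.Agent.Fga.FSGeo.isPullback_projMap _).flip h
  exact (Pr.cancel_left_of_respectsIso _ _).2 h1

instance : IsFinite (q k p) := of_iota k p ((IsFinite.SpecMap_iff (CommRingCat.ofHom (iota k p))).2 (iota_finite k p))

instance : Etale (q k p) := of_iota (Pr := @Etale) k p
  (HasRingHomProperty.Spec_iff.2 (iota_etale k p))

instance : Surjective (q k p) := of_iota (Pr := @Surjective) k p ⟨by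
  have : Subsingleton (Spec (.of (Fp.{u} p))) := inferInstanceAs (Subsingleton (PrimeSpectrum (Fp.{u} p)))
  have : Nonempty (Spec (.of k)) := inferInstanceAs (Nonempty (PrimeSpectrum k))
  intro y
  exact ⟨Classical.arbitrary _, Subsingleton.elim _ _⟩⟩

end fields

section level

variable (p : ℕ) [hp : Fact p.Prime] (N : ℕ) (hN : 1 ≤ N)

theorem redw_surjective : Function.Surjective (redw.{u} p N hN) := (WBz p N hN).surj

theorem ker_redw : RingHom.ker (redw.{u} p N hN) = Ideal.span {(p : Zw.{u} p N)} := (WBz p N hN).ker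

/-- `P^2_(F_p) → P^2_W`. -/
def jj : CohB1.ProjSpaceOver 2 (Spec (.of (Fp.{u} p))) ⟶ CohB1.ProjSpaceOver 2 (Spec (.of (Zw.{u} p N))) :=
  FGA.projMap 2 (Spec.map (CommRingCat.ofHom (redw p N hN)))

theorem isPullback_jj : IsPullback (jj.{u} p N hN) (CohB1.ProjSpaceOver.toBase 2 _) (CohB1.ProjSpaceOver.toBase 2 _)
    (Spec.map (CommRingCat.ofHom (redw p N hN))) := Groth.Agent.Fga.FSGeo.isPullback_projMap _

instance : IsClosedImmersion (jj.{u} p N hN) :=
  MorphismProperty.of_isPullback (P := @IsClosedImmersion) (isPullback_jj p N hN).flip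
    (IsClosedImmersion.spec_of_surjective _ (redw_surjective p N hN))

instance : Surjective (jj.{u} p N hN) :=
  MorphismProperty.of_isPullback (P := @Surjective) (isPullback_jj p N hN).flip ⟨by
    have h := range_comap_of_surjective _ (redw.{u} p N hN) (redw_surjective p N hN)
    have h2 : PrimeSpectrum.zeroLocus (RingHom.ker (redw.{u} p N hN) : Set (Zw.{u} p N)) = Set.univ := by
      rw [PrimeSpectrum.zeroLocus_eq_univ_iff, ker_redw]
      change Ideal.span {(p : Zw.{u} p N)} ≤ nilradical _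
      rw [Ideal.span_le, Set.singleton_subset_iff]
      exact ⟨N, pow_zero_Zw p N⟩
    rw [h2] at h
    exact Set.range_eq_univ.1 h⟩

theorem ker_appTop_jj {V : Scheme.{u}} [IsAffine V] (v : V ⟶ CohB1.ProjSpaceOver 2 (Spec (.of (Zw.{u} p N)))) :
    Function.Surjective (pullback.fst v (jj p N hN)).appTop ∧
      RingHom.ker (pullback.fst v (jj p N hN)).appTop.hom = Ideal.span {(p : Γ(V, ⊤))} := by
  have H : IsPullback (pullback.fst v (jj p N hN)) (pullback.snd v (jj p N hN) ≫ CohB1.ProjSpaceOver.toBase 2 _)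
      (v ≫ CohB1.ProjSpaceOver.toBase 2 _) (Spec.map (CommRingCat.ofHom (redw p N hN))) :=
    (IsPullback.of_hasPullback v (jj p N hN)).paste_vert (isPullback_jj p N hN)
  have h := ker_appTop _ (redw_surjective p N hN) _ (ker_redw p N hN) H
  rw [show (Scheme.ΓSpecIso (.of (Zw.{u} p N))).inv (p : Zw.{u} p N) = (p : Γ(Spec (.of (Zw.{u} p N)), ⊤)) from
    map_natCast (Scheme.ΓSpecIso (.of (Zw.{u} p N))).inv.hom p,
    show (v ≫ CohB1.ProjSpaceOver.toBase 2 (Spec (.of (Zw.{u} p N)))).appTop (p : Γ(Spec (.of (Zw.{u} p N)), ⊤)) =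
      (p : Γ(V, ⊤)) from map_natCast (v ≫ CohB1.ProjSpaceOver.toBase 2 (Spec (.of (Zw.{u} p N)))).appTop.hom p] at h
  exact h

/-- Bases modulo `p`, after étale localization. -/
theorem exists_isBas_p {X : Scheme.{u}} (ρ₁ : X ⟶ CohB1.ProjSpaceOver 2 (Spec (.of (Fp.{u} p)))) [IsFinite ρ₁]
    [Flat ρ₁] [LocallyOfFinitePresentation ρ₁] (x : CohB1.ProjSpaceOver 2 (Spec (.of (Zw.{u} p N)))) :
    ∃ O : (CohB1.ProjSpaceOver 2 (Spec (.of (Zw.{u} p N)))).Opens, x ∈ O ∧
      ∀ (V : Scheme.{u}) (v : V ⟶ CohB1.ProjSpaceOver 2 (Spec (.of (Zw.{u} p N)))) (_ : IsAffine V) (_ : ∀ y, v y ∈ O),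
      ∃ (m : ℕ) (c : Fin m → Γ(pullback v (ρ₁ ≫ jj p N hN), ⊤)),
        K961.IsBas p (pullback.fst v (ρ₁ ≫ jj p N hN)).appTop.hom c := by
  obtain ⟨z, rfl⟩ := (jj.{u} p N hN).surjective x
  obtain ⟨O, hO, h⟩ := exists_isBas ρ₁ (jj p N hN) z
  refine ⟨O, hO, fun V v hV hv => ?_⟩
  let u : pullback v (ρ₁ ≫ jj p N hN) ⟶ pullback v (jj p N hN) :=
    pullback.lift (pullback.fst v (ρ₁ ≫ jj p N hN)) (pullback.snd v (ρ₁ ≫ jj p N hN) ≫ ρ₁) (by
      rw [pullback.condition, Category.assoc])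
  have hu1 : u ≫ pullback.fst v (jj p N hN) = pullback.fst v (ρ₁ ≫ jj p N hN) := pullback.lift_fst _ _ _
  obtain ⟨m, c, hc⟩ := h V v hV hv u hu1 (pullback.lift_snd _ _ _)
  obtain ⟨hs, hk⟩ := ker_appTop_jj p N hN v
  have e : (pullback.fst v (ρ₁ ≫ jj p N hN)).appTop.hom =
      u.appTop.hom.comp (pullback.fst v (jj p N hN)).appTop.hom := by
    rw [← hu1, Scheme.Hom.comp_appTop]
    rfl
  refine ⟨m, c, ⟨fun y => ?_, fun a ha i => ?_⟩⟩
  · obtain ⟨x, hx, -⟩ := hc y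
    choose a ha using fun i => hs (x i)
    refine ⟨a, ?_⟩
    rw [← hx, e]
    exact Finset.sum_congr rfl fun i _ => by rw [← ha i]; rfl
  · rw [e] at ha
    have h1 : (fun i => (pullback.fst v (jj p N hN)).appTop.hom (a i)) = fun _ => 0 :=
      (hc 0).unique ha (by simp)
    have h2 : a i ∈ RingHom.ker (pullback.fst v (jj p N hN)).appTop.hom := congrFun h1 i
    rw [hk] at h2
    exact Ideal.mem_span_singleton.1 h2

end level

section tor

variable {p N : ℕ} [hp : Fact p.Prime] {k₀ : Type u} [Field k₀] (B : WB p N k₀ (Zw.{u} p N))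

include B in
theorem charP_of_WB : CharP k₀ p := by
  have h1 : (p : Zw.{u} p N) ∈ RingHom.ker B.π := by
    rw [B.ker]
    exact Ideal.mem_span_singleton_self _
  rw [CharP.charP_iff_prime_eq_zero hp.out]
  rwa [RingHom.mem_ker, map_natCast] at h1

/-- Étale algebras over `W[x, y]` are toric. -/
theorem hasTor : B.HasTor := by
  have := charP_of_WB B
  have h2 : Finite (Zw.{u} p N) := inferInstance
  have h3 : Finite k₀ := Finite.of_surjective _ B.surj
  exact fun _ _ i hi => K103.Tor.exists_tor _ i hi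

end tor

/-! ### Rings of functions -/

section RB

variable {P X : Scheme.{u}} (r : X ⟶ P) {W : Type u} [CommRing W] (D : P2 P W) (p : ℕ)

/-- `X ×_P V` over a chart: pushout. -/
theorem isPushout_RB [IsAffineHom r] {i : Fin 3} {V : P.Etale} (h : D.Ov i V) (hV : IsAffine V.left)
    (e : pullback.fst V.hom r ⁻¹ᵁ ⊤ ≤ pullback.snd V.hom r ⁻¹ᵁ (r ⁻¹ᵁ D.U i)) :
    IsPushout (V.hom.appLE (D.U i) ⊤ h.le) (r.app (D.U i)) (pullback.fst V.hom r).appTop
      ((pullback.snd V.hom r).appLE (r ⁻¹ᵁ D.U i) ⊤ e) := by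
  have : IsAffine ((𝟭 Scheme.{u}).obj V.left) := hV
  exact Groth.Agent.Pi1C.EtTraceSch.isPushout_appLE (IsPullback.of_hasPullback V.hom r).flip (D.aff i)
    (isAffineOpen_top _) h.le e

/-- All the properties of `Γ(X ×_P V)` over `Γ(V)`. -/
structure Good (V : P.Etale) (g : Γ(V.left, ⊤)) : Prop where
  nzd : ∀ a c : Γ(V.left, ⊤), g * a = p * c → ∃ d, a = p * d
  bas : ∃ (m : ℕ) (c : Fin m → RB r V), K961.IsBas p (sb' r V) c
  sm : ∃ φ : Fp.{u} p →+* RB r V, φ.Smooth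
  unr : letI := (sb' r V).toAlgebra; ∀ ω : Ω[RB r V⁄Γ(V.left, ⊤)], g • ω = 0

variable {D p}

theorem nzd_of {k₀ : Type u} [Field k₀] (red : W →+* k₀) (hk : RingHom.ker red = Ideal.span {(p : W)}) {i : Fin 3}
    {V : P.Etale} (h : D.Ov i V) (hV : IsAffine V.left) (g : Γ(P, D.U i)) (hg : ¬ (p : Γ(P, D.U i)) ∣ g)
    (a c : Γ(V.left, ⊤)) (hac : D.ev i V h g * a = p * c) : ∃ d, a = p * d := by
  have hu : ∀ u, (p : Γ(P, D.U i)) ∣ g * u → (p : Γ(P, D.U i)) ∣ u := by
    intro u hu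
    let e := RingEquiv.ofBijective (D.ch i) (D.chart i)
    have he : ∀ a, e (e.symm a) = a := e.apply_symm_apply
    have hp : ∀ a : Γ(P, D.U i), (p : Γ(P, D.U i)) ∣ a ↔ (p : MvPolynomial (Fin 2) W) ∣ e.symm a := by
      intro a
      rw [← map_natCast e, ← he a, map_dvd_iff e, e.symm_apply_apply]
    rw [hp] at hu hg ⊢
    rw [map_mul] at hu
    exact dvd_mvPolynomial red p hk _ _ hg hu
  let := (D.ev i V h).toAlgebra
  have : IsAffine ((𝟭 Scheme.{u}).obj V.left) := hV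
  have h2 : Algebra.Etale Γ(P, D.U i) Γ(V.left, ⊤) :=
    HasRingHomProperty.appLE (P := @Etale) V.hom V.prop ⟨D.U i, D.aff i⟩ ⟨⊤, isAffineOpen_top _⟩ h.le
  have h3 : Module.Flat Γ(P, D.U i) Γ(V.left, ⊤) := inferInstance
  have h4 := dvd_of_flat (p : Γ(P, D.U i)) g hu a ⟨c, by rw [map_natCast]; exact hac⟩
  rwa [map_natCast] at h4

theorem unr_of' [IsAffineHom r] {i : Fin 3} {V : P.Etale} (h : D.Ov i V) (hV : IsAffine V.left) (g : Γ(P, D.U i))
    (hg : letI := (r.app (D.U i)).hom.toAlgebra; ∀ ω : Ω[Γ(X, r ⁻¹ᵁ D.U i)⁄Γ(P, D.U i)], g • ω = 0) :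
    letI : Algebra Γ(V.left, ⊤) Γ(pullback V.hom r, ⊤) := (pullback.fst V.hom r).appTop.hom.toAlgebra
    ∀ ω : Ω[Γ(pullback V.hom r, ⊤)⁄Γ(V.left, ⊤)], D.ev i V h g • ω = 0 := by
  let : Algebra Γ(V.left, ⊤) Γ(pullback V.hom r, ⊤) := (pullback.fst V.hom r).appTop.hom.toAlgebra
  let : Algebra Γ(P, D.U i) Γ(X, r ⁻¹ᵁ D.U i) := (r.app (D.U i)).hom.toAlgebra
  have e : pullback.fst V.hom r ⁻¹ᵁ ⊤ ≤ pullback.snd V.hom r ⁻¹ᵁ (r ⁻¹ᵁ D.U i) :=
    Groth.Agent.Pi1C.EtTraceSch.preimage_le' (IsPullback.of_hasPullback V.hom r).flip.w h.le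
  have H := isPushout_RB r D h hV e
  let b : Γ(X, r ⁻¹ᵁ D.U i) →+* Γ(pullback V.hom r, ⊤) := ((pullback.snd V.hom r).appLE (r ⁻¹ᵁ D.U i) ⊤ e).hom
  have h1 : b.comp (algebraMap Γ(P, D.U i) Γ(X, r ⁻¹ᵁ D.U i)) =
      (algebraMap Γ(V.left, ⊤) Γ(pullback V.hom r, ⊤)).comp (D.ev i V h) :=
    RingHom.ext fun x => congr($(H.w).hom x).symm
  have h2 : Subring.closure (Set.range (algebraMap Γ(V.left, ⊤) Γ(pullback V.hom r, ⊤)) ∪ Set.range b) = ⊤ :=
    CommRingCat.closure_range_union_range_eq_top_of_isPushout H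
  exact smul_kaehler_of_closure (D.ev i V h) b h1 h2 g hg

theorem unr_of [IsAffineHom r] {i : Fin 3} {V : P.Etale} (h : D.Ov i V) (hV : IsAffine V.left) (g : Γ(P, D.U i))
    (hg : letI := (r.app (D.U i)).hom.toAlgebra; ∀ ω : Ω[Γ(X, r ⁻¹ᵁ D.U i)⁄Γ(P, D.U i)], g • ω = 0) :
    letI := (sb' r V).toAlgebra; ∀ ω : Ω[RB r V⁄Γ(V.left, ⊤)], D.ev i V h g • ω = 0 :=
  unr_of' r h hV g hg

theorem exists_smooth [IsAffineHom r] (F : Type u) [CommRing F] (s : X ⟶ Spec (.of F)) [Smooth s] (V : P.Etale)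
    (hV : IsAffine V.left) : ∃ φ : F →+* RB r V, φ.Smooth := by
  have h1 : Etale V.hom := V.prop
  have : IsAffine ((𝟭 Scheme.{u}).obj V.left) := hV
  have h2 : Smooth (pullback.snd V.hom r ≫ s) := inferInstance
  have h3 : IsAffine (pullback V.hom r) := inferInstance
  have h4 : (pullback.snd V.hom r ≫ s).appTop.hom.Smooth := (HasRingHomProperty.iff_of_isAffine (P := @Smooth)).1 h2
  exact ⟨(pullback.snd V.hom r ≫ s).appTop.hom.comp (Scheme.ΓSpecIso (.of F)).inv.hom, RingHom.Smooth.comp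
    (RingHom.Smooth.of_bijective (ConcreteCategory.bijective_of_isIso (Scheme.ΓSpecIso (.of F)).inv)) h4⟩

end RB

/-- Affine objects over a chart and over a given open subset. -/
theorem exists_affine' {P : Scheme.{u}} (O : P.Opens) (U : P.Etale) (x : U.left) (hx : U.hom x ∈ O) :
    ∃ (V : P.Etale) (g : V ⟶ U) (v : V.left), g.left v = x ∧ IsAffine V.left ∧ ∀ v, V.hom v ∈ O := by
  obtain ⟨O', hO, hxO, hOU⟩ := exists_isAffineOpen_mem_and_subset (X := U.left) (U := U.hom ⁻¹ᵁ O) hx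
  have : Etale (O'.ι ≫ U.hom) := MorphismProperty.comp_mem _ _ _ (inferInstance : Etale O'.ι) U.prop
  let V : P.Etale := Scheme.Etale.mk (O'.ι ≫ U.hom)
  refine ⟨V, MorphismProperty.Over.homMk O'.ι rfl, ⟨x, hxO⟩, rfl, hO, ?_⟩
  intro v
  change (O'.ι ≫ U.hom) v ∈ O
  rw [Scheme.Hom.comp_apply]
  exact hOU v.2

/-- **Projective surfaces over finite fields as covers of the projective plane of level `N`**. -/
theorem exists_good (k : Type u) [Field k] [Finite k] (p : ℕ) [Fact p.Prime] [CharP k p]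
    (X : Scheme.{u}) (f : X ⟶ Spec (.of k)) [AlgebraicGeometry.IsIntegral X]
    (hproj : Neron.IsProjectiveOver k (Over.mk f)) [SmoothOfRelativeDimension 2 f] (N : ℕ) (hN : 0 < N) :
    ∃ r : X ⟶ CohB1.ProjSpaceOver 2 (Spec (.of (Zw.{u} p N))), IsFinite r ∧ Surjective r ∧
      ∀ (U : (CohB1.ProjSpaceOver 2 (Spec (.of (Zw.{u} p N)))).Etale) (x : U.left), ∃ (V : _) (g : V ⟶ U) (v : V.left),
        g.left v = x ∧ IsAffine V.left ∧ ∃ (i : Fin 3) (_ : (K958.P2Charts.p2 (Zw.{u} p N)).Ov i V)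
          (a : Γ(V.left, ⊤)), Good r p V a := by
  obtain ⟨ρ, hρ, hfin, hflat, hsurj, V₀, hV₀, hV₀e⟩ := K609.FinSep.exists_finite_generically_etale' k p X f hproj 2
  let D := K958.P2Charts.p2 (Zw.{u} p N)
  let ρ₁ : X ⟶ CohB1.ProjSpaceOver 2 (Spec (.of (Fp.{u} p))) := ρ ≫ q k p
  let r : X ⟶ CohB1.ProjSpaceOver 2 (Spec (.of (Zw.{u} p N))) := ρ₁ ≫ jj p N hN
  have hs : Surjective ρ := ⟨hsurj⟩
  have hq : Flat (q k p) := inferInstance
  have hfin₁ : IsFinite ρ₁ := inferInstance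
  have hflat₁ : Flat ρ₁ := inferInstance
  have hnoeth : IsNoetherian (CohB1.ProjSpace 2 k) := Groth.Agent.CohqA.ProjDim.isNoetherian k 2
  have hlfp₀ : LocallyOfFinitePresentation ρ := LocallyOfFinitePresentation.iff_locallyOfFiniteType.2 inferInstance
  have hlfp : LocallyOfFinitePresentation ρ₁ := inferInstance
  have hsm : Smooth f := SmoothOfRelativeDimension.smooth 2 f
  have hsm' : Smooth (f ≫ Spec.map (CommRingCat.ofHom (iota k p))) := by
    have : Etale (Spec.map (CommRingCat.ofHom (iota k p))) := HasRingHomProperty.Spec_iff.2 (iota_etale k p)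
    infer_instance
  refine ⟨r, inferInstance, inferInstance, fun U x => ?_⟩
  obtain ⟨i, hi⟩ := D.cov (U.hom x)
  obtain ⟨O, hO, hbas⟩ := exists_isBas_p p N hN ρ₁ (U.hom x)
  obtain ⟨V, g, v, hv, hV, hVO⟩ := exists_affine' (O ⊓ D.U i) U x ⟨hO, hi⟩
  have hVi : D.Ov i V := fun y => (hVO y).2
  let π : CohB1.ProjSpace 2 k ⟶ CohB1.ProjSpaceOver 2 (Spec (.of (Zw.{u} p N))) := q k p ≫ jj p N hN
  have hfu₁ : AlgebraicGeometry.FormallyUnramified (q k p) := inferInstance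
  have hfu₂ : AlgebraicGeometry.FormallyUnramified (jj.{u} p N hN) := inferInstance
  have hfu : AlgebraicGeometry.FormallyUnramified π :=
    MorphismProperty.comp_mem @AlgebraicGeometry.FormallyUnramified (q k p) (jj p N hN) hfu₁ hfu₂
  have hne : (π ⁻¹ᵁ D.U i : Set (CohB1.ProjSpace 2 k)).Nonempty := by
    obtain ⟨y, hy⟩ := π.surjective (U.hom x)
    exact ⟨y, by change π y ∈ D.U i; rw [hy]; exact hi⟩
  obtain ⟨a, ha, hunr⟩ := exists_killer_geo ρ π V₀ hV₀ hV₀e (D.U i) (D.aff i) hne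
  refine ⟨V, g, v, hv, hV, i, hVi, D.ev i V hVi a, ?_, ?_, ?_, ?_⟩
  · refine nzd_of (redw p N hN) (ker_redw p N hN) hVi hV a ?_
    rintro ⟨b, rfl⟩
    refine ha ?_
    have h1 : (p : Γ(CohB1.ProjSpace 2 k, π ⁻¹ᵁ D.U i)) = 0 := by
      have h2 := map_natCast (((CohB1.ProjSpace.toSpec 2 k).appLE ⊤ (π ⁻¹ᵁ D.U i) le_top).hom.comp
        (Scheme.ΓSpecIso (.of k)).inv.hom) p
      rw [CharP.cast_eq_zero, map_zero] at h2
      exact h2.symm
    refine (map_mul (π.app (D.U i)).hom _ b).trans ?_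
    rw [map_natCast, h1, zero_mul]
  · exact hbas _ V.hom hV fun y => (hVO y).1
  · exact exists_smooth r (Fp.{u} p) (f ≫ Spec.map (CommRingCat.ofHom (iota k p))) V hV
  · exact unr_of r hVi hV a hunr

end K609.Cover
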