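import Mathlib.RingTheory.Unramified.Field
import Mathlib.RingTheory.Kaehler.Basic
import Mathlib.RingTheory.Localization.FractionRing
import Mathlib.RingTheory.EssentialFiniteness
import Mathlib.LinearAlgebra.Basis.VectorSpace
import Mathlib.LinearAlgebra.Dimension.Finite

/-!
Differential criteria for separability of extensions of function fields.
-/

set_option autoImplicit false
universe u

namespace K609.FinSepAlg

open KaehlerDifferential

section span

variable (k R K : Type*) [Field k] [CommRing R] [Field K] [Algebra k R] [Algebra k K] [Algebra R K]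
  [IsScalarTower k R K] [IsFractionRing R K]

/-- `Ω[K/k]` is spanned by the differentials of the elements of a ring `R` with fraction field `K`. -/
theorem span_eq_top : Submodule.span K (Set.range fun r : R => D k K (algebraMap R K r)) = ⊤ := by
  rw [eq_top_iff, ← KaehlerDifferential.span_range_derivation k K, Submodule.span_le]
  rintro _ ⟨x, rfl⟩
  obtain ⟨a, b, hb, rfl⟩ := IsFractionRing.div_surjective (A := R) x
  have hb0 : algebraMap R K b ≠ 0 := (IsLocalization.map_units K (⟨b, hb⟩ : nonZeroDivisors R)).ne_zero
  have h1 : D k K (algebraMap R K a / algebraMap R K b) =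
      (algebraMap R K b)⁻¹ • D k K (algebraMap R K a) -
        (algebraMap R K a / (algebraMap R K b) ^ 2) • D k K (algebraMap R K b) := by
    have h2 := (D k K).leibniz (algebraMap R K a / algebraMap R K b) (algebraMap R K b)
    rw [div_mul_cancel₀ _ hb0] at h2
    rw [h2, smul_add, smul_smul, smul_smul, inv_mul_cancel₀ hb0, one_smul,
      show (algebraMap R K b)⁻¹ * (algebraMap R K a / algebraMap R K b) =
        algebraMap R K a / (algebraMap R K b) ^ 2 by field_simp]
    abel
  rw [SetLike.mem_coe, h1]
  exact Submodule.sub_mem _ (Submodule.smul_mem _ _ (Submodule.subset_span ⟨a, rfl⟩))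
    (Submodule.smul_mem _ _ (Submodule.subset_span ⟨b, rfl⟩))

theorem exists_span (d : ℕ) [Module.Finite K Ω[K⁄k]] (hd : Module.finrank K Ω[K⁄k] = d) :
    ∃ r : Fin d → R, Submodule.span K (Set.range fun j => D k K (algebraMap R K (r j))) = ⊤ := by
  classical
  let b := Module.Basis.ofSpan (span_eq_top k R K).ge
  have : Fintype ((linearIndepOn_empty K id).extend
    (Set.empty_subset (Set.range fun r : R => D k K (algebraMap R K r)))) :=
    FiniteDimensional.fintypeBasisIndex b
  have hc := Module.finrank_eq_card_basis b
  let e : Fin d ≃ _ := (finCongr (hd.symm.trans hc)).trans (Fintype.equivFin _).symm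
  have hmem : ∀ j : Fin d, ∃ r : R, D k K (algebraMap R K r) = b (e j) := fun j => by
    have h1 := Module.Basis.ofSpan_subset (span_eq_top k R K).ge ⟨e j, rfl⟩
    exact h1
  choose r hr using hmem
  refine ⟨r, ?_⟩
  have h2 : (fun j => D k K (algebraMap R K (r j))) = b ∘ e := funext hr
  rw [h2, e.surjective.range_comp, b.span_eq]

end span

section sep

variable (k L K : Type*) [Field k] [Field L] [Field K] [Algebra k L] [Algebra k K] [Algebra L K]
  [IsScalarTower k L K]

/-- If the differentials of elements of `L` span `Ω[K/k]` then `K/L` is separable algebraic. -/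
theorem isSeparable [Algebra.EssFiniteType k K] {ι : Type*} (y : ι → L)
    (h : Submodule.span K (Set.range fun j => D k K (algebraMap L K (y j))) = ⊤) :
    Algebra.IsSeparable L K := by
  have h6 : Algebra.EssFiniteType L K := Algebra.EssFiniteType.of_comp k L K
  rw [← Algebra.FormallyUnramified.iff_isSeparable]
  refine ⟨?_⟩
  have h1 := KaehlerDifferential.map_surjective k L K
  refine subsingleton_of_forall_eq 0 fun w => ?_
  obtain ⟨v, rfl⟩ := h1 w
  have hv : v ∈ Submodule.span K (Set.range fun j => D k K (algebraMap L K (y j))) := h ▸ trivial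
  induction hv using Submodule.span_induction with
  | mem x hx =>
    obtain ⟨j, rfl⟩ := hx
    rw [KaehlerDifferential.map_D]
    simp
  | zero => exact map_zero _
  | add x y _ _ hx hy => rw [map_add, hx, hy, add_zero]
  | smul a x _ hx => rw [map_smul, hx, smul_zero]

end sep

section charp

variable (k K : Type*) [Field k] [Field K] [Algebra k K]

theorem D_pow_char (p : ℕ) [CharP K p] (x : K) (m : ℕ) : D k K (x ^ (p * m)) = 0 := by
  rw [Derivation.leibniz_pow, ← Nat.cast_smul_eq_nsmul K (p * m), Nat.cast_mul, CharP.cast_eq_zero, zero_mul,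
    zero_smul]

end charp

end K609.FinSepAlg
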