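import Groth.Agent.Variety.K426.LinProj
import Groth.Agent.Variety.K427.HomogAvoid

/-!
Forms of the same degree without common zero on a closed subset of projective space, over any field.
-/

set_option autoImplicit false
universe u

open CategoryTheory CategoryTheory.Limits AlgebraicGeometry Topology CohB1
open Groth.Agent Groth.Agent.VarietyB K426.ProjCut K426.LinProj K426

namespace K609.FinSepForms

variable {k : Type u} [Field k] {n : ℕ}

theorem exists_form_notMem (s : Set (ProjSpace n k)) (hs : s.Finite) :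
    ∃ (e : ℕ) (l : MvPolynomial (Fin (n + 1)) k), 0 < e ∧ l.IsHomogeneous e ∧ ∀ x ∈ s, l ∉ idl x := by
  classical
  obtain ⟨z, m, hm, hz, -, h⟩ := K427.HomogAvoid.exists_homogeneous_avoid (polyGrading n k) ⊤
    (Ideal.IsHomogeneous.top _) (hs.toFinset.image idl) (by
      intro p hp
      obtain ⟨x, -, rfl⟩ := Finset.mem_image.mp hp
      exact ⟨inferInstance, (show ProjectiveSpectrum (polyGrading n k) from x).not_irrelevant_le,
        fun h => (isPrime_idl x).ne_top (top_le_iff.mp h)⟩)
  exact ⟨m, z, hm, (MvPolynomial.mem_homogeneousSubmodule _ _).mp hz,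
    fun x hx => h _ (Finset.mem_image_of_mem _ (hs.mem_toFinset.mpr hx))⟩

/-- Forms of the same degree without common zero on a closed set of dimension less than their number. -/
theorem exists_forms : ∀ (e : ℕ) (W : Set (ProjSpace n k)) (_ : IsClosed W)
    (_ : ∀ z ∈ W, DimSch.trd k _ z < e),
    ∃ (m : ℕ) (l : Fin e → MvPolynomial (Fin (n + 1)) k), 0 < m ∧ (∀ i, (l i).IsHomogeneous m) ∧
      ∀ z ∈ W, ∃ i, l i ∉ idl z
  | 0, W, _, h => ⟨1, fun i => i.elim0, one_pos, fun i => i.elim0, fun z hz => absurd (h z hz) (Nat.not_lt_zero _)⟩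
  | e + 1, W, hW, h => by
    let s : Set (ProjSpace n k) := {c | c ∈ W ∧ ∀ w ∈ W, w ⤳ c → w = c}
    have hs : s.Finite := by
      have := noetherianSpace k n
      have hfin : (irreducibleComponents W).Finite :=
        TopologicalSpace.NoetherianSpace.finite_irreducibleComponents
      refine Set.Finite.of_finite_image (f := fun c => (Subtype.val ⁻¹' closure {c} : Set W))
        (hfin.subset ?_) ?_
      · rintro _ ⟨c, ⟨hc, hmax⟩, rfl⟩
        exact Cut.exists_mem_irreducibleComponents c hc hmax hW
      · rintro c ⟨hc, hmax⟩ c' ⟨hc', hmax'⟩ heq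
        have h1 : (⟨c', hc'⟩ : W) ∈ (Subtype.val ⁻¹' closure {c} : Set W) := by
          change (⟨c', hc'⟩ : W) ∈ (fun c => (Subtype.val ⁻¹' closure {c} : Set W)) c
          rw [heq]
          exact subset_closure rfl
        exact hmax' c hc (specializes_iff_mem_closure.mpr h1)
    obtain ⟨a, l0, ha, hl0, hl0'⟩ := exists_form_notMem s hs
    obtain ⟨b, l, hb, hl, hl'⟩ := exists_forms e (W ∩ {z | l0 ∈ idl z})
      (hW.inter (isClosed_setOf_mem l0)) (by
        rintro z ⟨hz, hz'⟩
        obtain ⟨c, hc, hcz, hmax⟩ := exists_max hW z hz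
        have hne : c ≠ z := by
          rintro rfl
          exact hl0' _ ⟨hc, hmax⟩ hz'
        have h1 := Cut.trd_lt k hcz hne
        have h2 := h c hc
        omega)
    refine ⟨a * b, Fin.cons (l0 ^ b) (fun i => l i ^ a), Nat.mul_pos ha hb, fun i => ?_, fun z hz => ?_⟩
    · induction i using Fin.cases with
      | zero => exact hl0.pow b
      | succ i => rw [mul_comm]; exact (hl i).pow a
    · by_cases h0 : l0 ∈ idl z
      · obtain ⟨i, hi⟩ := hl' z ⟨hz, h0⟩
        exact ⟨i.succ, fun h => hi ((isPrime_idl z).mem_of_pow_mem _ h)⟩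
      · exact ⟨0, fun h => h0 ((isPrime_idl z).mem_of_pow_mem _ h)⟩

end K609.FinSepForms
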