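import Groth.Agent.EtCoh.K609.FinSepAlg
import Groth.Agent.EtCoh.K609.FinSepForms
import Groth.Agent.Ega2.PnMap
import Mathlib.RingTheory.Etale.Kaehler
import Mathlib.RingTheory.Smooth.StandardSmoothCotangent


/-!
Function fields of smooth schemes over a field; sections of closed subschemes of Proj as fractions.
-/

set_option autoImplicit false
universe u

open CategoryTheory CategoryTheory.Limits AlgebraicGeometry Topology CohB1
open Groth.Agent Groth.Agent.VarietyB Groth.Agent.VarietyB.ProjGlue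

namespace K609.FinSep

section ff

variable {k : Type u} [Field k] {X : Scheme.{u}} (f : X ⟶ Spec (.of k))

open CoordData

theorem appLE_eq_baseHom (U : (Spec (.of k)).Opens) (V : X.Opens) (e : V ≤ f ⁻¹ᵁ U) :
    (f.appLE U V e).hom.comp (((Spec (.of k)).presheaf.map (homOfLE (le_top : U ≤ ⊤)).op).hom.comp
      (Scheme.ΓSpecIso (.of k)).inv.hom) = baseHom f V := by
  rw [baseHom, ← RingHom.comp_assoc, ← RingHom.comp_assoc]
  congr 1
  rw [← CommRingCat.hom_comp, ← CommRingCat.hom_comp, Scheme.Hom.map_appLE, Scheme.Hom.appLE]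
  rfl

theorem exists_stdSmooth (d : ℕ) [SmoothOfRelativeDimension d f] (x : X) :
    ∃ W : X.Opens, IsAffineOpen W ∧ x ∈ W ∧ (baseHom f W).IsStandardSmoothOfRelativeDimension d := by
  obtain ⟨U, hU, V, hV, hx, e, h⟩ :=
    SmoothOfRelativeDimension.exists_isStandardSmoothOfRelativeDimension (n := d) (f := f) x
  refine ⟨V, hV, hx, ?_⟩
  have hU' : U = ⊤ := by
    apply TopologicalSpace.Opens.ext
    have : f x ∈ U := e hx
    exact Set.eq_univ_of_forall fun y => by
      rw [Subsingleton.elim y (f x)]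
      exact this
  rw [← appLE_eq_baseHom f U V e]
  subst hU'
  have h1 : (((Spec (CommRingCat.of k)).presheaf.map
      (homOfLE (le_top : (⊤ : (Spec (CommRingCat.of k)).Opens) ≤ ⊤)).op).hom.comp
      (Scheme.ΓSpecIso (CommRingCat.of k)).inv.hom) =
      (Scheme.ΓSpecIso (CommRingCat.of k)).symm.commRingCatIsoToRingEquiv.toRingHom := by
    rw [show (homOfLE (le_top : (⊤ : (Spec (CommRingCat.of k)).Opens) ≤ ⊤)).op = 𝟙 _ from rfl,
      CategoryTheory.Functor.map_id]
    rfl
  rw [h1]
  exact (RingHom.isStandardSmoothOfRelativeDimension_respectsIso (n := d)).2 _ _ h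

/-- the structure homomorphism of the function field -/
noncomputable def ffBase [IrreducibleSpace X] : k →+* X.functionField :=
  (X.presheaf.germ ⊤ (genericPoint X) trivial).hom.comp (baseHom f ⊤)

theorem germ_baseHom [IrreducibleSpace X] (W : X.Opens) (hW : genericPoint X ∈ W) :
    (X.presheaf.germ W (genericPoint X) hW).hom.comp (baseHom f W) = ffBase f := by
  rw [ffBase, ← baseHom_map f (le_top : W ≤ ⊤), ← RingHom.comp_assoc]
  congr 1
  rw [← CommRingCat.hom_comp, TopCat.Presheaf.germ_res]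

theorem finrank_ff [IsIntegral X] (d : ℕ) [SmoothOfRelativeDimension d f] :
    letI : Algebra k X.functionField := (ffBase f).toAlgebra
    Module.Finite X.functionField Ω[X.functionField⁄k] ∧ Module.finrank X.functionField Ω[X.functionField⁄k] = d := by
  let _ : Algebra k X.functionField := (ffBase f).toAlgebra
  obtain ⟨W, hW, hx, h⟩ := exists_stdSmooth f d (genericPoint X)
  have : Nonempty W := ⟨⟨_, hx⟩⟩
  let _ : Algebra k Γ(X, W) := (baseHom f W).toAlgebra
  have h1 : Algebra.IsStandardSmoothOfRelativeDimension d k Γ(X, W) := h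
  have h0 : IsScalarTower k Γ(X, W) X.functionField := IsScalarTower.of_algebraMap_eq' (germ_baseHom f W hx).symm
  have h2 : IsFractionRing Γ(X, W) X.functionField := functionField_isFractionRing_of_isAffineOpen X W hW
  have h3 : Algebra.FormallyEtale Γ(X, W) X.functionField := Algebra.FormallyEtale.of_isLocalization (nonZeroDivisors _)
  let e := KaehlerDifferential.tensorKaehlerEquivOfFormallyEtale k Γ(X, W) X.functionField
  have : Nontrivial Γ(X, W) := (algebraMap Γ(X, W) X.functionField).domain_nontrivial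
  have h4 : Algebra.IsStandardSmooth k Γ(X, W) := Algebra.IsStandardSmoothOfRelativeDimension.isStandardSmooth d
  have h5 := Algebra.IsStandardSmoothOfRelativeDimension.rank_kaehlerDifferential (R := k) (S := Γ(X, W)) d
  have h6 : Module.Finite Γ(X, W) Ω[Γ(X, W)⁄k] := inferInstance
  constructor
  · exact Module.Finite.equiv e
  · rw [← e.finrank_eq, Module.finrank_baseChange, Module.finrank, h5]
    simp

theorem essFiniteType_ff [IsIntegral X] [LocallyOfFiniteType f] :
    letI : Algebra k X.functionField := (ffBase f).toAlgebra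
    Algebra.EssFiniteType k X.functionField := by
  let _ : Algebra k X.functionField := (ffBase f).toAlgebra
  obtain ⟨_, ⟨W, hW, rfl⟩, hx, -⟩ := X.isBasis_affineOpens.exists_subset_of_mem_open
    (Set.mem_univ (genericPoint X)) isOpen_univ
  have : Nonempty W := ⟨⟨_, hx⟩⟩
  let _ : Algebra k Γ(X, W) := (baseHom f W).toAlgebra
  have h0 : IsScalarTower k Γ(X, W) X.functionField := IsScalarTower.of_algebraMap_eq' (germ_baseHom f W hx).symm
  have h2 : IsFractionRing Γ(X, W) X.functionField := functionField_isFractionRing_of_isAffineOpen X W hW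
  have h3 : (f.appLE ⊤ W le_top).hom.FiniteType := f.finiteType_appLE (isAffineOpen_top _) hW le_top
  have h1 : Algebra.FiniteType k Γ(X, W) := by
    change (baseHom f W).FiniteType
    rw [← appLE_eq_baseHom f ⊤ W le_top]
    have h4 : (((Spec (CommRingCat.of k)).presheaf.map
        (homOfLE (le_top : (⊤ : (Spec (CommRingCat.of k)).Opens) ≤ ⊤)).op).hom.comp
        (Scheme.ΓSpecIso (CommRingCat.of k)).inv.hom) =
        (Scheme.ΓSpecIso (CommRingCat.of k)).symm.commRingCatIsoToRingEquiv.toRingHom := by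
      rw [show (homOfLE (le_top : (⊤ : (Spec (CommRingCat.of k)).Opens) ≤ ⊤)).op = 𝟙 _ from rfl,
        CategoryTheory.Functor.map_id]
      rfl
    rw [h4]
    exact RingHom.finiteType_respectsIso.2 _ _ h3
  have h5 : Algebra.EssFiniteType Γ(X, W) X.functionField := Algebra.EssFiniteType.of_isLocalization _ (nonZeroDivisors _)
  exact Algebra.EssFiniteType.comp k Γ(X, W) X.functionField

end ff


section frac

open Picfga.ProjGlue HomogeneousLocalization

variable {A : Type u} {σ : Type*} [CommRing A] [SetLike σ A] [AddSubgroupClass σ A] {𝒜 : ℕ → σ}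
  [GradedRing 𝒜]

theorem frac_add (a b c : A) (h : ∃ n, a ∈ 𝒜 n ∧ c ∈ 𝒜 n) (h' : ∃ n, b ∈ 𝒜 n ∧ c ∈ 𝒜 n)
    (h'' : ∃ n, a + b ∈ 𝒜 n ∧ c ∈ 𝒜 n) (T : (Proj 𝒜).Opens) (hT : T ≤ Proj.basicOpen 𝒜 c) :
    frac (a + b) c h'' T hT = frac a c h T hT + frac b c h' T hT := by
  apply valAt_ext
  intro x hx
  have h1 : valAt 𝒜 (frac a c h T hT + frac b c h' T hT) x hx =
    valAt 𝒜 (frac a c h T hT) x hx + valAt 𝒜 (frac b c h' T hT) x hx := rfl
  rw [h1, HomogeneousLocalization.val_add, valAt_frac, valAt_frac, valAt_frac, Localization.add_mk_self]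

theorem exists_frac {X : Scheme.{u}} (ι : X ⟶ Proj 𝒜) [IsClosedImmersion ι] {w : A} {e : ℕ} (he : 0 < e)
    (hw : w ∈ 𝒜 e) (r : Γ(X, ι ⁻¹ᵁ Proj.basicOpen 𝒜 w)) :
    ∃ (n : ℕ) (a : A) (ha : a ∈ 𝒜 (n • e)), ι.app (Proj.basicOpen 𝒜 w)
      (frac a (w ^ n) ⟨n • e, ha, SetLike.pow_mem_graded n hw⟩ (Proj.basicOpen 𝒜 w) (by
        intro x hx h
        exact hx ((x : ProjectiveSpectrum 𝒜).isPrime.mem_of_pow_mem n h))) = r := by
  obtain ⟨s, rfl⟩ := ι.app_surjective _ (Proj.isAffineOpen_basicOpen 𝒜 w hw he) r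
  have i1 : IsIso (Proj.awayToSection 𝒜 w) :=
    inferInstanceAs (IsIso (Proj.basicOpenIsoAway 𝒜 w hw he).hom)
  obtain ⟨z, rfl⟩ := (ConcreteCategory.bijective_of_isIso (Proj.awayToSection 𝒜 w)).2 s
  obtain ⟨n, a, ha, rfl⟩ := HomogeneousLocalization.Away.mk_surjective 𝒜 hw z
  exact ⟨n, a, ha, by rw [← awayToSection_mk hw n a ha]⟩

end frac

end K609.FinSep
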